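import Cfsg.Agent.Lib.F4Graph46.Lists

/-! The checks for blocks 0 to 7. -/

set_option autoImplicit false
set_option maxRecDepth 100000

namespace Cfsg.Agent.Lib.F4Graph46

theorem ok0 : okChunk 0 = true := by decide +kernel

theorem closed0 : closedChunk 0 = true := by decide +kernel

theorem ok1 : okChunk 1 = true := by decide +kernel

theorem closed1 : closedChunk 1 = true := by decide +kernel

theorem ok2 : okChunk 2 = true := by decide +kernel

theorem closed2 : closedChunk 2 = true := by decide +kernel

theorem ok3 : okChunk 3 = true := by decide +kernel

theorem closed3 : closedChunk 3 = true := by decide +kernel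

theorem ok4 : okChunk 4 = true := by decide +kernel

theorem closed4 : closedChunk 4 = true := by decide +kernel

theorem ok5 : okChunk 5 = true := by decide +kernel

theorem closed5 : closedChunk 5 = true := by decide +kernel

theorem ok6 : okChunk 6 = true := by decide +kernel

theorem closed6 : closedChunk 6 = true := by decide +kernel

theorem ok7 : okChunk 7 = true := by decide +kernel

theorem closed7 : closedChunk 7 = true := by decide +kernel

end Cfsg.Agent.Lib.F4Graph46
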