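import Cfsg.Agent.Lib.F4Graph46.Lists

/-! The checks for blocks 8 to 15. -/

set_option autoImplicit false
set_option maxRecDepth 100000

namespace Cfsg.Agent.Lib.F4Graph46

theorem ok8 : okChunk 8 = true := by decide +kernel

theorem closed8 : closedChunk 8 = true := by decide +kernel

theorem ok9 : okChunk 9 = true := by decide +kernel

theorem closed9 : closedChunk 9 = true := by decide +kernel

theorem ok10 : okChunk 10 = true := by decide +kernel

theorem closed10 : closedChunk 10 = true := by decide +kernel

theorem ok11 : okChunk 11 = true := by decide +kernel

theorem closed11 : closedChunk 11 = true := by decide +kernel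

theorem ok12 : okChunk 12 = true := by decide +kernel

theorem closed12 : closedChunk 12 = true := by decide +kernel

theorem ok13 : okChunk 13 = true := by decide +kernel

theorem closed13 : closedChunk 13 = true := by decide +kernel

theorem ok14 : okChunk 14 = true := by decide +kernel

theorem closed14 : closedChunk 14 = true := by decide +kernel

theorem ok15 : okChunk 15 = true := by decide +kernel

theorem closed15 : closedChunk 15 = true := by decide +kernel

end Cfsg.Agent.Lib.F4Graph46
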