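import Cfsg.Agent.Lib.F4Graph46.Lists

/-! The checks for blocks 16 to 23. -/

set_option autoImplicit false
set_option maxRecDepth 100000

namespace Cfsg.Agent.Lib.F4Graph46

theorem ok16 : okChunk 16 = true := by decide +kernel

theorem closed16 : closedChunk 16 = true := by decide +kernel

theorem ok17 : okChunk 17 = true := by decide +kernel

theorem closed17 : closedChunk 17 = true := by decide +kernel

theorem ok18 : okChunk 18 = true := by decide +kernel

theorem closed18 : closedChunk 18 = true := by decide +kernel

theorem ok19 : okChunk 19 = true := by decide +kernel

theorem closed19 : closedChunk 19 = true := by decide +kernel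

theorem ok20 : okChunk 20 = true := by decide +kernel

theorem closed20 : closedChunk 20 = true := by decide +kernel

theorem ok21 : okChunk 21 = true := by decide +kernel

theorem closed21 : closedChunk 21 = true := by decide +kernel

theorem ok22 : okChunk 22 = true := by decide +kernel

theorem closed22 : closedChunk 22 = true := by decide +kernel

theorem ok23 : okChunk 23 = true := by decide +kernel

theorem closed23 : closedChunk 23 = true := by decide +kernel

end Cfsg.Agent.Lib.F4Graph46
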