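import Cfsg.Agent.Lib.F4Graph46.Lists

/-! The checks for blocks 24 to 31. -/

set_option autoImplicit false
set_option maxRecDepth 100000

namespace Cfsg.Agent.Lib.F4Graph46

theorem ok24 : okChunk 24 = true := by decide +kernel

theorem closed24 : closedChunk 24 = true := by decide +kernel

theorem ok25 : okChunk 25 = true := by decide +kernel

theorem closed25 : closedChunk 25 = true := by decide +kernel

theorem ok26 : okChunk 26 = true := by decide +kernel

theorem closed26 : closedChunk 26 = true := by decide +kernel

theorem ok27 : okChunk 27 = true := by decide +kernel

theorem closed27 : closedChunk 27 = true := by decide +kernel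

theorem ok28 : okChunk 28 = true := by decide +kernel

theorem closed28 : closedChunk 28 = true := by decide +kernel

theorem ok29 : okChunk 29 = true := by decide +kernel

theorem closed29 : closedChunk 29 = true := by decide +kernel

theorem ok30 : okChunk 30 = true := by decide +kernel

theorem closed30 : closedChunk 30 = true := by decide +kernel

theorem ok31 : okChunk 31 = true := by decide +kernel

theorem closed31 : closedChunk 31 = true := by decide +kernel

end Cfsg.Agent.Lib.F4Graph46
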