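import Cfsg.Agent.Lib.F4Graph46.Data
import Mathlib.LinearAlgebra.Matrix.Determinant.Basic
import Mathlib.LinearAlgebra.Matrix.Notation
import Mathlib.Tactic.FinCases
import Mathlib.Tactic.Ring
import Mathlib.Tactic.IntervalCases
import Mathlib.Data.List.GetD
import Mathlib.Algebra.Field.ZMod

/-!
Integer 4 × 4 matrices as lists of sixteen entries, and the conditions which the elements of the Weyl
group of type F₄ satisfy with respect to the polynomials Φ₃, Φ₄, Φ₆, Φ₈, Φ₁₂.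
-/

set_option autoImplicit false

namespace Cfsg.Agent.Lib.F4Graph46

/-- the matrix of a list -/
def mk (l : List ℤ) : Matrix (Fin 4) (Fin 4) ℤ := fun i j => l.getD (4 * i.val + j.val) 0

/-- the vector of a list -/
def vec (y : List ℤ) : Fin 4 → ℤ := fun i => y.getD i.val 0

/-- unpack sixteen entries of four bits -/
def dec (n : ℕ) : List ℤ :=
  (List.range 16).map fun i => ((Nat.land (Nat.shiftRight n (4 * i)) 15 : ℕ) : ℤ) - 8

def mulE (a b : List ℤ) (i j : ℕ) : ℤ :=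
  a.getD (4 * i + 0) 0 * b.getD (4 * 0 + j) 0 + a.getD (4 * i + 1) 0 * b.getD (4 * 1 + j) 0 +
    a.getD (4 * i + 2) 0 * b.getD (4 * 2 + j) 0 + a.getD (4 * i + 3) 0 * b.getD (4 * 3 + j) 0

/-- the product -/
def mulL (a b : List ℤ) : List ℤ :=
  [mulE a b 0 0, mulE a b 0 1, mulE a b 0 2, mulE a b 0 3, mulE a b 1 0, mulE a b 1 1, mulE a b 1 2,
    mulE a b 1 3, mulE a b 2 0, mulE a b 2 1, mulE a b 2 2, mulE a b 2 3, mulE a b 3 0, mulE a b 3 1,
    mulE a b 3 2, mulE a b 3 3]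

def oneL : List ℤ := [1, 0, 0, 0, 0, 1, 0, 0, 0, 0, 1, 0, 0, 0, 0, 1]

def zeroL : List ℤ := [0, 0, 0, 0, 0, 0, 0, 0, 0, 0, 0, 0, 0, 0, 0, 0]

/-- `x a + y b + z c` -/
def comb (x y z : ℤ) (a b c : List ℤ) : List ℤ :=
  (List.range 16).map fun i => x * a.getD i 0 + y * b.getD i 0 + z * c.getD i 0

def det3 (a b c d e f g h i : ℤ) : ℤ := a * (e * i - f * h) - b * (d * i - f * g) + c * (d * h - e * g)

/-- the determinant -/
def det4 (l : List ℤ) : ℤ :=
  let g := fun n => l.getD n 0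
  g 0 * det3 (g 5) (g 6) (g 7) (g 9) (g 10) (g 11) (g 13) (g 14) (g 15) -
    g 1 * det3 (g 4) (g 6) (g 7) (g 8) (g 10) (g 11) (g 12) (g 14) (g 15) +
    g 2 * det3 (g 4) (g 5) (g 7) (g 8) (g 9) (g 11) (g 12) (g 13) (g 15) -
    g 3 * det3 (g 4) (g 5) (g 6) (g 8) (g 9) (g 10) (g 12) (g 13) (g 14)

/-- the trace -/
def trL (l : List ℤ) : ℤ := l.getD 0 0 + l.getD 5 0 + l.getD 10 0 + l.getD 15 0

/-- the sum of the principal minors of order two -/
def sigTwo (l : List ℤ) : ℤ :=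
  let g := fun n => l.getD n 0
  (g 0 * g 5 - g 1 * g 4) + (g 0 * g 10 - g 2 * g 8) + (g 0 * g 15 - g 3 * g 12) +
    (g 5 * g 10 - g 6 * g 9) + (g 5 * g 15 - g 7 * g 13) + (g 10 * g 15 - g 11 * g 14)

/-- the sum of the principal minors of order three -/
def sigThree (l : List ℤ) : ℤ :=
  let g := fun n => l.getD n 0
  det3 (g 5) (g 6) (g 7) (g 9) (g 10) (g 11) (g 13) (g 14) (g 15) +
    det3 (g 0) (g 2) (g 3) (g 8) (g 10) (g 11) (g 12) (g 14) (g 15) +
    det3 (g 0) (g 1) (g 3) (g 4) (g 5) (g 7) (g 12) (g 13) (g 15) +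
    det3 (g 0) (g 1) (g 2) (g 4) (g 5) (g 6) (g 8) (g 9) (g 10)

/-- a matrix applied to a vector -/
def mulVecL (l y : List ℤ) : List ℤ :=
  (List.range 4).map fun i => l.getD (4 * i + 0) 0 * y.getD 0 0 + l.getD (4 * i + 1) 0 * y.getD 1 0 +
    l.getD (4 * i + 2) 0 * y.getD 2 0 + l.getD (4 * i + 3) 0 * y.getD 3 0

/-- the matrix with four given columns -/
def cols (a b c d : List ℤ) : List ℤ :=
  [a.getD 0 0, b.getD 0 0, c.getD 0 0, d.getD 0 0, a.getD 1 0, b.getD 1 0, c.getD 1 0, d.getD 1 0,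
    a.getD 2 0, b.getD 2 0, c.getD 2 0, d.getD 2 0, a.getD 3 0, b.getD 3 0, c.getD 3 0, d.getD 3 0]

def basisL : List (List ℤ) := [[1, 0, 0, 0], [0, 1, 0, 0], [0, 0, 1, 0], [0, 0, 0, 1]]

/-- a divisor of a power of six -/
def smooth (x : ℤ) : Bool := decide (x ≠ 0) && decide ((6 : ℤ) ^ 40 % x = 0)

/-- `M² + c₁ M + c₀` -/
def quadL (c₁ c₀ : ℤ) (l : List ℤ) : List ℤ := comb 1 c₁ c₀ (mulL l l) l oneL

/-- `M⁴ + a M² + 1` -/
def quartL (a : ℤ) (l : List ℤ) : List ℤ := comb 1 a 1 (mulL (mulL l l) (mulL l l)) (mulL l l) oneL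

/-- the resultant of `X² + c₁ X + c₀` and the cofactor of this polynomial in the characteristic one -/
def cofRes (c₁ c₀ : ℤ) (l : List ℤ) : ℤ :=
  let p₁ := -trL l - c₁
  let p₀ := sigTwo l - c₁ * p₁ - c₀
  (p₀ - c₀) * (p₀ - c₀) - c₁ * (p₁ - c₁) * (p₀ - c₀) + c₀ * (p₁ - c₁) * (p₁ - c₁)

/-- the conditions for a quadratic cyclotomic polynomial -/
def okQuad (roots : List (List ℤ)) (c₁ c₀ : ℤ) (l : List ℤ) : Bool :=
  if det4 (quadL c₁ c₀ l) = 0 then
    let p₁ := -trL l - c₁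
    let p₀ := sigTwo l - c₁ * p₁ - c₀
    decide (-sigThree l = c₁ * p₀ + c₀ * p₁) && decide (det4 l = c₀ * p₀) &&
      (if quadL c₁ c₀ l = zeroL then
        roots.all fun y => basisL.any fun z => smooth (det4 (cols y (mulVecL l y) z (mulVecL l z)))
      else smooth (cofRes c₁ c₀ l))
  else smooth (det4 (quadL c₁ c₀ l))

/-- the conditions for a quartic cyclotomic polynomial -/
def okQuart (roots : List (List ℤ)) (a : ℤ) (l : List ℤ) : Bool :=
  if quartL a l = zeroL then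
    decide (trL l = 0) && decide (sigTwo l = a) && decide (sigThree l = 0) && decide (det4 l = 1) &&
      roots.all fun y => smooth (det4 (cols y (mulVecL l y) (mulVecL l (mulVecL l y))
        (mulVecL l (mulVecL l (mulVecL l y)))))
  else true

/-- all the conditions -/
def okMat (roots : List (List ℤ)) (l : List ℤ) : Bool :=
  okQuad roots 1 1 l && okQuad roots 0 1 l && okQuad roots (-1) 1 l &&
    okQuart roots 0 l && okQuart roots (-1) l &&
    !(decide (det4 (quadL 1 1 l) = 0) && decide (det4 (quadL 0 1 l) = 0)) &&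
    !(decide (det4 (quadL 1 1 l) = 0) && decide (det4 (quadL (-1) 1 l) = 0)) &&
    !(decide (det4 (quadL 0 1 l) = 0) && decide (det4 (quadL (-1) 1 l) = 0))

theorem mk_mulL (a b : List ℤ) : mk (mulL a b) = mk a * mk b := by
  ext i j
  fin_cases i <;> fin_cases j <;>
    simp [mk, mulL, mulE, Matrix.mul_apply, Fin.sum_univ_four]

theorem mk_oneL : mk oneL = 1 := by
  ext i j
  fin_cases i <;> fin_cases j <;> rfl

theorem mk_zeroL : mk zeroL = 0 := by
  ext i j
  fin_cases i <;> fin_cases j <;> rfl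

theorem mk_comb (x y z : ℤ) (a b c : List ℤ) :
    mk (comb x y z a b c) = x • mk a + y • mk b + z • mk c := by
  ext i j
  simp only [Matrix.add_apply, Matrix.smul_apply, smul_eq_mul]
  fin_cases i <;> fin_cases j <;> simp [mk, comb]

theorem mk_quadL (c₁ c₀ : ℤ) (l : List ℤ) : mk (quadL c₁ c₀ l) = mk l ^ 2 + c₁ • mk l + c₀ • 1 := by
  rw [quadL, mk_comb, mk_mulL, mk_oneL, one_smul, sq]

theorem mk_quartL (a : ℤ) (l : List ℤ) : mk (quartL a l) = mk l ^ 4 + a • mk l ^ 2 + 1 := by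
  rw [quartL, mk_comb, mk_mulL, mk_mulL, mk_oneL, one_smul, one_smul, sq, pow_succ, pow_succ, pow_succ, pow_one]
  simp only [Matrix.mul_assoc]

theorem det_mk (l : List ℤ) : (mk l).det = det4 l := by
  simp [Matrix.det_succ_row_zero, Fin.sum_univ_succ, Fin.succAbove, mk, det4, det3]
  ring

theorem det_charpoly (x : ℤ) (l : List ℤ) :
    (x • (1 : Matrix (Fin 4) (Fin 4) ℤ) - mk l).det =
      x ^ 4 - trL l * x ^ 3 + sigTwo l * x ^ 2 - sigThree l * x + det4 l := by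
  simp only [Matrix.det_succ_row_zero, Fin.sum_univ_succ, Matrix.sub_apply, Matrix.smul_apply, smul_eq_mul,
    Matrix.submatrix_apply]
  simp [Fin.succAbove, mk, det4, det3, trL, sigTwo, sigThree, Matrix.one_apply]
  ring

theorem mk_mulVec (l y : List ℤ) : (mk l).mulVec (vec y) = vec (mulVecL l y) := by
  funext i
  fin_cases i <;> simp [mk, vec, mulVecL, Matrix.mulVec, dotProduct, Fin.sum_univ_four]

theorem eq_zero_iff {l : List ℤ} (h : l.length = 16) : mk l = 0 ↔ l = zeroL := by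
  refine ⟨fun h0 => ?_, fun h0 => h0 ▸ mk_zeroL⟩
  apply List.ext_getElem h
  intro n h1 h2
  have h3 : n < 16 := h ▸ h1
  have := congrFun (congrFun h0 ⟨n / 4, by omega⟩) ⟨n % 4, by omega⟩
  rw [mk] at this
  simp only [Nat.div_add_mod, Matrix.zero_apply] at this
  rw [List.getD_eq_getElem _ _ h1] at this
  rw [this]
  interval_cases n <;> rfl

theorem length_quartL (a : ℤ) (l : List ℤ) : (quartL a l).length = 16 := by simp [quartL, comb]

theorem length_quadL (c₁ c₀ : ℤ) (l : List ℤ) : (quadL c₁ c₀ l).length = 16 := by simp [quadL, comb]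

theorem smooth_ne_zero {x : ℤ} (h : smooth x = true) {r : ℕ} (hr : r.Prime) (hr5 : 5 ≤ r) :
    (x : ZMod r) ≠ 0 := by
  haveI : Fact r.Prime := ⟨hr⟩
  simp only [smooth, Bool.and_eq_true, decide_eq_true_eq] at h
  obtain ⟨c, hc⟩ : x ∣ (6 : ℤ) ^ 40 := Int.dvd_of_emod_eq_zero h.2
  intro h0
  have h6 : ((6 : ℤ) : ZMod r) ^ 40 = 0 := by rw [← Int.cast_pow, hc, Int.cast_mul, h0, zero_mul]
  have h6' : ((6 : ℕ) : ZMod r) = 0 := by exact_mod_cast pow_eq_zero_iff (n := 40) (by norm_num) |>.1 h6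
  rw [ZMod.natCast_eq_zero_iff, show (6 : ℕ) = 2 * 3 from rfl, hr.dvd_mul] at h6'
  rcases h6' with h | h <;> have := Nat.le_of_dvd (by norm_num) h <;> omega

end Cfsg.Agent.Lib.F4Graph46
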