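import Cfsg.Agent.Lib.F4Graph46.Check
import Mathlib.LinearAlgebra.Matrix.ToLinearEquiv
import Mathlib.LinearAlgebra.Matrix.NonsingularInverse
import Mathlib.Tactic.LinearCombination

/-!
Eigenvectors of the checked matrices modulo primes at least five: the consequences of `okMat`.
-/

set_option autoImplicit false

namespace Cfsg.Agent.Lib.F4Graph46

open Matrix

/-- the matrix over a ring -/
def mR (R : Type*) [CommRing R] (l : List ℤ) : Matrix (Fin 4) (Fin 4) R :=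
  (mk l).map (Int.cast : ℤ → R)

/-- an eigenvector on the left -/
def Eig {R : Type*} [CommRing R] (l : List ℤ) (q : R) (E : Fin 4 → R) : Prop := E ᵥ* mR R l = q • E

/-- the three quadratic cases (coefficients `c₁`, `c₀`) -/
def Quad (c₁ c₀ : ℤ) : Prop := (c₁ = 1 ∨ c₁ = 0 ∨ c₁ = -1) ∧ c₀ = 1

/-- the two quartic cases -/
def Quart (a : ℤ) : Prop := a = 0 ∨ a = -1

theorem okQuad_of {roots : List (List ℤ)} {l : List ℤ} (h : okMat roots l = true) {c₁ c₀ : ℤ}
    (hc : Quad c₁ c₀) : okQuad roots c₁ c₀ l = true := by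
  simp only [okMat, Bool.and_eq_true] at h
  rcases hc with ⟨rfl | rfl | rfl, rfl⟩ <;> simp only [h]

theorem okQuart_of {roots : List (List ℤ)} {l : List ℤ} (h : okMat roots l = true) {a : ℤ}
    (ha : Quart a) : okQuart roots a l = true := by
  simp only [okMat, Bool.and_eq_true] at h
  rcases ha with rfl | rfl <;> simp only [h]

theorem not_both {roots : List (List ℤ)} {l : List ℤ} (h : okMat roots l = true) {c₁ c₀ d₁ d₀ : ℤ}
    (hc : Quad c₁ c₀) (hd : Quad d₁ d₀) (hne : c₁ ≠ d₁) (h1 : det4 (quadL c₁ c₀ l) = 0) :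
    det4 (quadL d₁ d₀ l) ≠ 0 := by
  simp only [okMat, Bool.and_eq_true, Bool.not_eq_true', Bool.and_eq_false_iff, decide_eq_false_iff_not] at h
  intro h2
  obtain ⟨⟨⟨-, p34⟩, p36⟩, p46⟩ := h
  rcases hc with ⟨rfl | rfl | rfl, rfl⟩ <;> rcases hd with ⟨rfl | rfl | rfl, rfl⟩ <;>
    first
      | exact hne rfl
      | exact p34.elim (· h1) (· h2)
      | exact p34.elim (· h2) (· h1)
      | exact p36.elim (· h1) (· h2)
      | exact p36.elim (· h2) (· h1)
      | exact p46.elim (· h1) (· h2)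
      | exact p46.elim (· h2) (· h1)

section Ring

variable {R : Type*} [CommRing R] {l : List ℤ} {q : R} {E : Fin 4 → R}

theorem det_mR (l : List ℤ) : (mR R l).det = (det4 l : R) := by
  rw [mR, ← det_mk]
  exact ((Int.castRingHom R).map_det _).symm

theorem mR_quadL (c₁ c₀ : ℤ) (l : List ℤ) :
    mR R (quadL c₁ c₀ l) = mR R l ^ 2 + (c₁ : R) • mR R l + (c₀ : R) • 1 := by
  have h := congrArg (Int.castRingHom R).mapMatrix (mk_quadL c₁ c₀ l)
  simp only [map_add, map_pow, map_zsmul, map_one, RingHom.mapMatrix_apply] at h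
  simp only [← Int.cast_smul_eq_zsmul R] at h
  exact h

theorem mR_quartL (a : ℤ) (l : List ℤ) :
    mR R (quartL a l) = mR R l ^ 4 + (a : R) • mR R l ^ 2 + 1 := by
  have h := congrArg (Int.castRingHom R).mapMatrix (mk_quartL a l)
  simp only [map_add, map_pow, map_zsmul, map_one, RingHom.mapMatrix_apply] at h
  simp only [← Int.cast_smul_eq_zsmul R] at h
  exact h

theorem Eig.pow (h : Eig l q E) : ∀ i : ℕ, E ᵥ* mR R l ^ i = q ^ i • E
  | 0 => by simp
  | i + 1 => by rw [pow_succ, ← Matrix.vecMul_vecMul, h.pow i, Matrix.smul_vecMul, h, smul_smul, pow_succ]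

theorem Eig.quad (h : Eig l q E) (c₁ c₀ : ℤ) :
    E ᵥ* mR R (quadL c₁ c₀ l) = (q ^ 2 + c₁ * q + c₀) • E := by
  rw [mR_quadL, Matrix.vecMul_add, Matrix.vecMul_add, Matrix.vecMul_smul, Matrix.vecMul_smul, h.pow, h,
    Matrix.vecMul_one, smul_smul, add_smul, add_smul]

theorem Eig.quart (h : Eig l q E) (a : ℤ) :
    E ᵥ* mR R (quartL a l) = (q ^ 4 + a * q ^ 2 + 1) • E := by
  rw [mR_quartL, Matrix.vecMul_add, Matrix.vecMul_add, Matrix.vecMul_smul, h.pow, h.pow,
    Matrix.vecMul_one, smul_smul, add_smul, add_smul, one_smul]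

theorem det_sub (x : R) (l : List ℤ) : (x • (1 : Matrix (Fin 4) (Fin 4) R) - mR R l).det =
    x ^ 4 - trL l * x ^ 3 + sigTwo l * x ^ 2 - sigThree l * x + det4 l := by
  simp only [Matrix.det_succ_row_zero, Fin.sum_univ_succ, Matrix.sub_apply, Matrix.smul_apply, smul_eq_mul,
    Matrix.submatrix_apply]
  simp [Fin.succAbove, mR, mk, det4, det3, trL, sigTwo, sigThree, Matrix.one_apply]
  ring

theorem Eig.det_smul (h : Eig l q E) : (q • (1 : Matrix (Fin 4) (Fin 4) R) - mR R l).det • E = 0 := by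
  have h0 : E ᵥ* (q • (1 : Matrix (Fin 4) (Fin 4) R) - mR R l) = 0 := by
    rw [Matrix.vecMul_sub, Matrix.vecMul_smul, Matrix.vecMul_one, h, sub_self]
  have h1 := congrArg (fun v => v ᵥ* (q • (1 : Matrix (Fin 4) (Fin 4) R) - mR R l).adjugate) h0
  simp only [Matrix.vecMul_vecMul, Matrix.mul_adjugate, Matrix.zero_vecMul, Matrix.vecMul_smul,
    Matrix.vecMul_one] at h1
  exact h1

theorem vecMul_eq_dot (h : Eig l q E) (y : List ℤ) :
    E ⬝ᵥ (fun k => (vec (mulVecL l y) k : R)) = q * (E ⬝ᵥ fun k => (vec y k : R)) := by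
  have h1 : (fun k => (vec (mulVecL l y) k : R)) = mR R l *ᵥ fun k => (vec y k : R) := by
    funext k
    rw [← mk_mulVec]
    exact (Int.castRingHom R).map_mulVec _ _ k
  rw [h1, Matrix.dotProduct_mulVec, h, smul_dotProduct, smul_eq_mul]

end Ring

section Prime

variable {roots : List (List ℤ)} {l : List ℤ} {r : ℕ} [Fact r.Prime] {q : ZMod r}

theorem eq_zero_of_det {E : Fin 4 → ZMod r} {A : List ℤ} (hA : (det4 A : ZMod r) ≠ 0)
    (h : E ᵥ* mR (ZMod r) A = 0) : E = 0 := by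
  by_contra hE
  exact hA (by rw [← det_mR, ← Matrix.exists_vecMul_eq_zero_iff]; exact ⟨E, hE, h⟩)

theorem vecMul_cols (E : Fin 4 → ZMod r) (a b c d : List ℤ) :
    E ᵥ* mR (ZMod r) (cols a b c d) = ![E ⬝ᵥ (fun k => (vec a k : ZMod r)), E ⬝ᵥ (fun k => (vec b k : ZMod r)),
      E ⬝ᵥ (fun k => (vec c k : ZMod r)), E ⬝ᵥ (fun k => (vec d k : ZMod r))] := by
  funext i
  fin_cases i <;> simp [mR, mk, cols, vec, Matrix.vecMul, dotProduct, Fin.sum_univ_four]

theorem det_quad_eq_zero (hok : okMat roots l = true) (hr5 : 5 ≤ r) {c₁ c₀ : ℤ} (hc : Quad c₁ c₀)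
    (hq : q ^ 2 + c₁ * q + c₀ = 0) {E : Fin 4 → ZMod r} (hE : E ≠ 0) (h : Eig l q E) :
    det4 (quadL c₁ c₀ l) = 0 := by
  have hk := okQuad_of hok hc
  by_contra hne
  rw [okQuad, if_neg hne] at hk
  refine hE (eq_zero_of_det (smooth_ne_zero hk Fact.out hr5) ?_)
  rw [h.quad, hq, zero_smul]

/-- the characteristic polynomial contains the quadratic factor -/
theorem charpoly_quad (hok : okMat roots l = true) {c₁ c₀ : ℤ} (hc : Quad c₁ c₀)
    (hd : det4 (quadL c₁ c₀ l) = 0) {R : Type*} [CommRing R] (x : R) :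
    (x • (1 : Matrix (Fin 4) (Fin 4) R) - mR R l).det = (x ^ 2 + c₁ * x + c₀) *
      (x ^ 2 + (-trL l - c₁ : ℤ) * x + (sigTwo l - c₁ * (-trL l - c₁) - c₀ : ℤ)) := by
  have hk := okQuad_of hok hc
  rw [okQuad, if_pos hd] at hk
  simp only [Bool.and_eq_true, decide_eq_true_eq] at hk
  obtain ⟨⟨h3, h4⟩, -⟩ := hk
  have h3' := congrArg (fun z : ℤ => (z : R)) h3
  have h4' := congrArg (fun z : ℤ => (z : R)) h4
  simp only [Int.cast_neg, Int.cast_add, Int.cast_mul, Int.cast_sub] at h3' h4'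
  rw [det_sub]
  push_cast
  linear_combination x * h3' + h4'

theorem exists_eig_quad (hok : okMat roots l = true) {c₁ c₀ : ℤ} (hc : Quad c₁ c₀)
    (hd : det4 (quadL c₁ c₀ l) = 0) {s : ℕ} [Fact s.Prime] {x : ZMod s} (hx : x ^ 2 + c₁ * x + c₀ = 0) :
    ∃ E : Fin 4 → ZMod s, E ≠ 0 ∧ Eig l x E := by
  obtain ⟨E, hE, h⟩ := Matrix.exists_vecMul_eq_zero_iff.2
    (show (x • (1 : Matrix (Fin 4) (Fin 4) (ZMod s)) - mR (ZMod s) l).det = 0 by
      rw [charpoly_quad hok hc hd, hx, zero_mul])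
  refine ⟨E, hE, ?_⟩
  rw [Matrix.vecMul_sub, Matrix.vecMul_smul, Matrix.vecMul_one, sub_eq_zero] at h
  exact h.symm

theorem quad_ne {c₁ c₀ : ℤ} (hc : Quad c₁ c₀) (hr5 : 5 ≤ r) (hq : q ^ 2 + c₁ * q + c₀ = 0) :
    q ≠ 0 ∧ 2 * q + c₁ ≠ 0 := by
  have hp : r.Prime := Fact.out
  have hnz : ∀ n : ℕ, 0 < n → n < 5 → (n : ZMod r) ≠ 0 := fun n hn hn5 h0 => by
    rw [ZMod.natCast_eq_zero_iff] at h0
    have := Nat.le_of_dvd hn h0
    omega
  refine ⟨fun h0 => ?_, fun h0 => ?_⟩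
  · rw [h0, hc.2] at hq
    simp at hq
  · have h1 : (c₁ : ZMod r) ^ 2 - 4 * c₀ = 0 := by linear_combination ((2 : ZMod r) * q + c₁) * h0 - 4 * hq
    rcases hc with ⟨rfl | rfl | rfl, rfl⟩ <;> push_cast at h1
    · exact hnz 3 (by norm_num) (by norm_num) (by push_cast; linear_combination -h1)
    · exact hnz 4 (by norm_num) (by norm_num) (by push_cast; linear_combination -h1)
    · exact hnz 3 (by norm_num) (by norm_num) (by push_cast; linear_combination -h1)

theorem cof_ne_zero (hok : okMat roots l = true) (hr5 : 5 ≤ r) {c₁ c₀ : ℤ} (hc : Quad c₁ c₀)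
    (hd : det4 (quadL c₁ c₀ l) = 0) (hne : quadL c₁ c₀ l ≠ zeroL) (hq : q ^ 2 + c₁ * q + c₀ = 0) :
    q ^ 2 + (-trL l - c₁ : ℤ) * q + ((sigTwo l - c₁ * (-trL l - c₁) - c₀ : ℤ) : ZMod r) ≠ 0 := by
  have hk := okQuad_of hok hc
  rw [okQuad, if_pos hd] at hk
  simp only [Bool.and_eq_true, if_neg hne] at hk
  intro h0
  refine smooth_ne_zero hk.2 Fact.out hr5 ?_
  rw [cofRes]
  push_cast at h0 ⊢
  linear_combination
    (-((-(trL l : ZMod r) - c₁ - c₁) * q) + (sigTwo l - c₁ * (-(trL l : ZMod r) - c₁) - c₀ - c₀)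
        - c₁ * (-(trL l : ZMod r) - c₁ - c₁)) * h0 +
      ((-(trL l : ZMod r) - c₁ - c₁) ^ 2
        + (-((-(trL l : ZMod r) - c₁ - c₁) * q) + (sigTwo l - c₁ * (-(trL l : ZMod r) - c₁) - c₀ - c₀)
        - c₁ * (-(trL l : ZMod r) - c₁ - c₁)) * (-1)) * hq

/-- an integer prime to r which, times the value of the quadratic, kills all eigenvectors -/
theorem exists_killer (hok : okMat roots l = true) (hr5 : 5 ≤ r) {c₁ c₀ : ℤ} (hc : Quad c₁ c₀)
    (hd : det4 (quadL c₁ c₀ l) = 0) (Q : ℤ) (hQ : (Q : ZMod r) ^ 2 + c₁ * (Q : ZMod r) + c₀ = 0) :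
    ∃ u : ℤ, (u : ZMod r) ≠ 0 ∧ ∀ (n : ℕ) (E : Fin 4 → ZMod n), Eig l (Q : ZMod n) E →
      ((u * (Q ^ 2 + c₁ * Q + c₀) : ℤ) : ZMod n) • E = 0 := by
  by_cases hz : quadL c₁ c₀ l = zeroL
  · refine ⟨1, by simp, fun n E h => ?_⟩
    have h1 := h.quad c₁ c₀
    rw [hz, mR, mk_zeroL, Matrix.map_zero _ Int.cast_zero, Matrix.vecMul_zero] at h1
    rw [one_mul]
    push_cast
    exact h1.symm
  · refine ⟨Q ^ 2 + (-trL l - c₁) * Q + (sigTwo l - c₁ * (-trL l - c₁) - c₀), ?_, fun n E h => ?_⟩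
    · have := cof_ne_zero hok hr5 hc hd hz hQ
      push_cast at this ⊢
      exact this
    · have h1 := h.det_smul
      rw [charpoly_quad hok hc hd] at h1
      push_cast at h1 ⊢
      rw [mul_comm]
      exact h1

/-- setting a row to zero -/
def zeroRow (j : ℕ) (l : List ℤ) : List ℤ :=
  (List.range 16).map fun i => if i / 4 = j then 0 else l.getD i 0

/-- the characteristic values of the four matrices with one row set to zero -/
theorem sum_zeroRow {R : Type*} [CommRing R] (x : R) (l : List ℤ) :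
    (∑ j : Fin 4, (x ^ 4 - trL (zeroRow j l) * x ^ 3 + sigTwo (zeroRow j l) * x ^ 2
      - sigThree (zeroRow j l) * x + det4 (zeroRow j l) : R)) =
      x * (4 * x ^ 3 - 3 * trL l * x ^ 2 + 2 * sigTwo l * x - sigThree l) := by
  rw [Fin.sum_univ_four]
  simp [trL, sigTwo, sigThree, det4, det3, zeroRow]
  ring

theorem exists_comb {F : Type*} [Field F] {E E' : Fin 4 → F}
    (hind : ∀ a b : F, a • E + b • E' = 0 → a = 0 ∧ b = 0) (φ : (Fin 4 → F) →ₗ[F] F) :
    ∃ a b : F, a • E + b • E' ≠ 0 ∧ φ (a • E + b • E') = 0 := by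
  by_cases h : φ E = 0
  · exact ⟨1, 0, fun h0 => one_ne_zero (hind 1 0 h0).1, by simp [h]⟩
  · refine ⟨-φ E', φ E, fun h0 => h (hind _ _ h0).2, ?_⟩
    simp [mul_comm]

theorem Eig.comb {R : Type*} [CommRing R] {l : List ℤ} {q : R} {E E' : Fin 4 → R}
    (h : Eig l q E) (h' : Eig l q E') (a b : R) : Eig l q (a • E + b • E') := by
  rw [Eig, Matrix.add_vecMul, Matrix.smul_vecMul, Matrix.smul_vecMul, h, h', smul_add, smul_comm q a,
    smul_comm q b]

/-- two independent eigenvectors force the quadratic to annihilate the matrix -/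
theorem quad_eq_zero (hok : okMat roots l = true) (hr5 : 5 ≤ r) {c₁ c₀ : ℤ} (hc : Quad c₁ c₀)
    (hq : q ^ 2 + c₁ * q + c₀ = 0) {E E' : Fin 4 → ZMod r} (h : Eig l q E) (h' : Eig l q E')
    (hind : ∀ a b : ZMod r, a • E + b • E' = 0 → a = 0 ∧ b = 0) :
    quadL c₁ c₀ l = zeroL := by
  have hE : E ≠ 0 := fun h0 => one_ne_zero (hind 1 0 (by simp [h0])).1
  have hd := det_quad_eq_zero hok hr5 hc hq hE h
  obtain ⟨hq0, hq1⟩ := quad_ne hc hr5 hq
  by_contra hne
  have hP := cof_ne_zero hok hr5 hc hd hne hq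
  have hrow : ∀ j : Fin 4, (q ^ 4 - trL (zeroRow j l) * q ^ 3 + sigTwo (zeroRow j l) * q ^ 2
      - sigThree (zeroRow j l) * q + det4 (zeroRow j l) : ZMod r) = 0 := by
    intro j
    obtain ⟨a, b, hab, hj⟩ := exists_comb hind (LinearMap.proj (R := ZMod r) j)
    have hj' : (a • E + b • E') j = 0 := hj
    rw [← det_sub, ← Matrix.exists_vecMul_eq_zero_iff]
    refine ⟨_, hab, ?_⟩
    rw [Matrix.vecMul_sub, Matrix.vecMul_smul, Matrix.vecMul_one, sub_eq_zero, ← h.comb h' a b]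
    funext i
    simp only [Matrix.vecMul, dotProduct]
    refine Finset.sum_congr rfl fun k _ => ?_
    rcases eq_or_ne k j with rfl | hkj
    · rw [hj', zero_mul, zero_mul]
    · have hk : (4 * (k : ℕ) + i) / 4 ≠ j := by
        have : (k : ℕ) ≠ j := fun h => hkj (Fin.ext h)
        omega
      have hlt : 4 * (k : ℕ) + i < 16 := by omega
      simp [mR, mk, zeroRow, List.getD_eq_getElem?_getD, hlt, hk]
  have hsum : q * (4 * q ^ 3 - 3 * trL l * q ^ 2 + 2 * sigTwo l * q - sigThree l) = 0 := by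
    rw [← sum_zeroRow]
    exact Finset.sum_eq_zero fun j _ => hrow j
  have hder := (mul_eq_zero.1 hsum).resolve_left hq0
  have hk := okQuad_of hok hc
  rw [okQuad, if_pos hd] at hk
  simp only [Bool.and_eq_true, decide_eq_true_eq] at hk
  obtain ⟨⟨h3', -⟩, -⟩ := hk
  have h3'' := congrArg (fun z : ℤ => (z : ZMod r)) h3'
  simp only [Int.cast_neg, Int.cast_add, Int.cast_mul, Int.cast_sub] at h3''
  refine hP ((mul_eq_zero.1 ?_).resolve_left hq1)
  push_cast
  linear_combination hder - h3'' - ((2 : ZMod r) * q + (-(trL l : ZMod r) - c₁)) * hq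

/-- two independent eigenvectors do not both vanish at a root -/
theorem quad_regular (hok : okMat roots l = true) (hr5 : 5 ≤ r) {c₁ c₀ : ℤ} (hc : Quad c₁ c₀)
    (hq : q ^ 2 + c₁ * q + c₀ = 0) {E E' : Fin 4 → ZMod r} (h : Eig l q E) (h' : Eig l q E')
    (hind : ∀ a b : ZMod r, a • E + b • E' = 0 → a = 0 ∧ b = 0) {y : List ℤ} (hy : y ∈ roots)
    (h1 : E ⬝ᵥ (fun k => (vec y k : ZMod r)) = 0) (h2 : E' ⬝ᵥ (fun k => (vec y k : ZMod r)) = 0) : False := by
  have hz := quad_eq_zero hok hr5 hc hq h h' hind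
  have hd : det4 (quadL c₁ c₀ l) = 0 := by rw [hz]; rfl
  have hk := okQuad_of hok hc
  rw [okQuad, if_pos hd] at hk
  simp only [Bool.and_eq_true, if_pos hz, List.all_eq_true, List.any_eq_true] at hk
  obtain ⟨z, -, hzs⟩ := hk.2 y hy
  obtain ⟨a, b, hab, hz0⟩ := exists_comb hind
    { toFun := fun v => v ⬝ᵥ fun k => (vec z k : ZMod r)
      map_add' := fun v w => add_dotProduct v w _
      map_smul' := fun c v => smul_dotProduct c v _ }
  change (a • E + b • E') ⬝ᵥ (fun k => (vec z k : ZMod r)) = 0 at hz0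
  have hy0 : (a • E + b • E') ⬝ᵥ (fun k => (vec y k : ZMod r)) = 0 := by
    rw [add_dotProduct, smul_dotProduct, smul_dotProduct, h1, h2, smul_zero, smul_zero, add_zero]
  refine hab (eq_zero_of_det (smooth_ne_zero hzs Fact.out hr5) ?_)
  rw [vecMul_cols, vecMul_eq_dot (h.comb h' a b) y, vecMul_eq_dot (h.comb h' a b) z, hy0, hz0, mul_zero]
  funext i
  fin_cases i <;> rfl

theorem quart_coeff (hok : okMat roots l = true) {a : ℤ} (ha : Quart a) (hz : quartL a l = zeroL) :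
    trL l = 0 ∧ sigTwo l = a ∧ sigThree l = 0 ∧ det4 l = 1 ∧ ∀ y ∈ roots,
      smooth (det4 (cols y (mulVecL l y) (mulVecL l (mulVecL l y))
        (mulVecL l (mulVecL l (mulVecL l y))))) = true := by
  have hk := okQuart_of hok ha
  rw [okQuart, if_pos hz] at hk
  simp only [Bool.and_eq_true, decide_eq_true_eq, List.all_eq_true] at hk
  exact ⟨hk.1.1.1.1, hk.1.1.1.2, hk.1.1.2, hk.1.2, hk.2⟩

theorem quart_regular (hok : okMat roots l = true) (hr5 : 5 ≤ r) {a : ℤ} (ha : Quart a)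
    (hz : quartL a l = zeroL) {E : Fin 4 → ZMod r} (hE : E ≠ 0) (h : Eig l q E) {y : List ℤ}
    (hy : y ∈ roots) : E ⬝ᵥ (fun k => (vec y k : ZMod r)) ≠ 0 := by
  intro h0
  refine hE (eq_zero_of_det (smooth_ne_zero ((quart_coeff hok ha hz).2.2.2.2 y hy) Fact.out hr5) ?_)
  simp only [vecMul_cols, vecMul_eq_dot h, h0, mul_zero]
  funext i
  fin_cases i <;> rfl

theorem exists_eig_quart (hok : okMat roots l = true) {a : ℤ} (ha : Quart a) (hz : quartL a l = zeroL)
    {s : ℕ} [Fact s.Prime] {x : ZMod s} (hx : x ^ 4 + a * x ^ 2 + 1 = 0) :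
    ∃ E : Fin 4 → ZMod s, E ≠ 0 ∧ Eig l x E := by
  obtain ⟨h1, h2, h3, h4, -⟩ := quart_coeff hok ha hz
  obtain ⟨E, hE, h⟩ := Matrix.exists_vecMul_eq_zero_iff.2
    (show (x • (1 : Matrix (Fin 4) (Fin 4) (ZMod s)) - mR (ZMod s) l).det = 0 by
      rw [det_sub, h1, h2, h3, h4]
      push_cast
      linear_combination hx)
  refine ⟨E, hE, ?_⟩
  rw [Matrix.vecMul_sub, Matrix.vecMul_smul, Matrix.vecMul_one, sub_eq_zero] at h
  exact h.symm

theorem Eig.quart_eq_zero {R : Type*} [CommRing R] {l : List ℤ} {q : R} {E : Fin 4 → R} (h : Eig l q E)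
    {a : ℤ} (hz : quartL a l = zeroL) : (q ^ 4 + a * q ^ 2 + 1) • E = 0 := by
  rw [← h.quart, hz, mR, mk_zeroL, Matrix.map_zero _ Int.cast_zero, Matrix.vecMul_zero]

end Prime

end Cfsg.Agent.Lib.F4Graph46
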