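import Cfsg.Agent.Lib.F4Graph46.Blocks0
import Cfsg.Agent.Lib.F4Graph46.Blocks1
import Cfsg.Agent.Lib.F4Graph46.Blocks2
import Cfsg.Agent.Lib.F4Graph46.Blocks3
import Cfsg.Agent.Lib.ChevStructure.RegTorus.F4

/-!
Every element of the Weyl group of type F₄ satisfies the conditions of `okMat`: the group is the closure
of the identity under the four fundamental reflections, and the 1152 matrices are checked one by one.
-/

set_option autoImplicit false
set_option maxRecDepth 100000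
set_option linter.style.longLine false

namespace Cfsg.Agent.Lib.F4Graph46

open Cfsg.Lie Cfsg.Agent.Lib.ChevStructure

theorem base : matL 0 = oneL := by decide +kernel

theorem chunks : ∀ c < 32, okChunk c = true ∧ closedChunk c = true := by
  intro c hc
  interval_cases c
  · exact ⟨ok0, closed0⟩
  · exact ⟨ok1, closed1⟩
  · exact ⟨ok2, closed2⟩
  · exact ⟨ok3, closed3⟩
  · exact ⟨ok4, closed4⟩
  · exact ⟨ok5, closed5⟩
  · exact ⟨ok6, closed6⟩
  · exact ⟨ok7, closed7⟩
  · exact ⟨ok8, closed8⟩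
  · exact ⟨ok9, closed9⟩
  · exact ⟨ok10, closed10⟩
  · exact ⟨ok11, closed11⟩
  · exact ⟨ok12, closed12⟩
  · exact ⟨ok13, closed13⟩
  · exact ⟨ok14, closed14⟩
  · exact ⟨ok15, closed15⟩
  · exact ⟨ok16, closed16⟩
  · exact ⟨ok17, closed17⟩
  · exact ⟨ok18, closed18⟩
  · exact ⟨ok19, closed19⟩
  · exact ⟨ok20, closed20⟩
  · exact ⟨ok21, closed21⟩
  · exact ⟨ok22, closed22⟩
  · exact ⟨ok23, closed23⟩
  · exact ⟨ok24, closed24⟩
  · exact ⟨ok25, closed25⟩
  · exact ⟨ok26, closed26⟩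
  · exact ⟨ok27, closed27⟩
  · exact ⟨ok28, closed28⟩
  · exact ⟨ok29, closed29⟩
  · exact ⟨ok30, closed30⟩
  · exact ⟨ok31, closed31⟩

theorem checkedAt {n : ℕ} (hn : n < 1152) : okMat rootsL (matL n) = true ∧ ∀ j < 4, nbr n j < 1152 ∧
    mulL (srefL.getD j []) (matL n) = matL (nbr n j) := by
  obtain ⟨h1, h2⟩ := chunks (n / 36) (by omega)
  rw [okChunk, List.all_eq_true] at h1
  rw [closedChunk, List.all_eq_true] at h2
  have e : 36 * (n / 36) + n % 36 = n := Nat.div_add_mod n 36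
  have hm : n % 36 ∈ List.range 36 := List.mem_range.2 (Nat.mod_lt _ (by norm_num))
  have h1 := h1 _ hm
  have h2 := h2 _ hm
  rw [e] at h1 h2
  refine ⟨h1, fun j hj => ?_⟩
  rw [List.all_eq_true] at h2
  have h := h2 j (List.mem_range.2 hj)
  simpa only [Bool.and_eq_true, decide_eq_true_eq] using h

theorem sref_entries : ∀ i m k : Fin chevF4.rank,
    (srefL.getD i.val []).getD (4 * m.val + k.val) 0 =
      (if m = k then 1 else 0) - if m = i then RegTorus.F4.aF i k else 0 := by decide +kernel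

theorem sref_mat (i : Fin chevF4.rank) :
    mk (srefL.getD i.val []) = RegTorus.srefMat (D := chevF4) RegTorus.F4.aF i :=
  Matrix.ext fun m k => sref_entries i m k

theorem roots_vec : ∀ y : Rt chevF4,
    [RegTorus.F4.vv y.val ⟨0, by decide⟩, RegTorus.F4.vv y.val ⟨1, by decide⟩,
      RegTorus.F4.vv y.val ⟨2, by decide⟩, RegTorus.F4.vv y.val ⟨3, by decide⟩] ∈ rootsL := by
  unfold Rt; decide +kernel

theorem exists_root (y : Rt chevF4) : ∃ Y ∈ rootsL, vec Y = RegTorus.F4.C.v y := by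
  refine ⟨_, roots_vec y, ?_⟩
  rw [RegTorus.F4.v_eq]
  funext i
  rcases RegTorus.F4.cases4 i with rfl | rfl | rfl | rfl <;> rfl

/-- Every element of the Weyl group satisfies the conditions. -/
theorem exists_list {σ : Equiv.Perm (Rt chevF4)} (hσ : σ ∈ RegTorus.F4.C.WG) :
    ∃ l, mk l = RegTorus.mat RegTorus.F4.C σ ∧ okMat rootsL l = true := by
  suffices h : ∃ n < 1152, mk (matL n) = RegTorus.mat RegTorus.F4.C σ by
    obtain ⟨n, hn, h⟩ := h
    exact ⟨_, h, (checkedAt hn).1⟩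
  obtain ⟨L, rfl⟩ := RegTorus.F4.C.mem_WG_iff.1 hσ
  induction L with
  | nil => exact ⟨0, by norm_num, by rw [base, mk_oneL, RegTorus.F4.C.pprod_nil, RegTorus.mat_one]; rfl⟩
  | cons i L ih =>
    obtain ⟨n, hn, ih⟩ := ih (RegTorus.F4.C.pprod_mem_WG L)
    have h := (checkedAt hn).2 i.val i.isLt
    refine ⟨nbr n i.val, h.1, ?_⟩
    rw [← h.2, mk_mulL, ih, sref_mat, RegTorus.F4.C.pprod_cons,
      RegTorus.mat_mul RegTorus.F4.C (Subgroup.subset_closure ⟨i, rfl⟩), RegTorus.mat_sref]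
    rw [show RegTorus.F4.aF = fun j k => A chevF4 j (RegTorus.F4.C.p k) from
      funext fun j => funext fun k => (RegTorus.F4.aF_eq j k).symm]
    rfl

end Cfsg.Agent.Lib.F4Graph46
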