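import Cfsg.Agent.Lib.ChevStructure.RegTorus.F4
import Cfsg.Agent.Lib.F4Graph46.Tables
import Cfsg.Agent.Lib.F4Graph46.Eigen
import Mathlib.FieldTheory.Finite.Extension

/-!
The group of type F₄ over the extension of degree 24 of a finite field, its diagonal subgroup, and the
logarithms of the torus elements.
-/

set_option autoImplicit false
set_option linter.unusedSectionVars false

namespace Cfsg.Agent.Lib.F4Graph46

open Cfsg.Lie Cfsg.Agent.Lib.ChevStructure
open scoped MatrixGroups Matrix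

universe u

/-- the core -/
noncomputable abbrev C : Core chevF4 := RegTorus.F4.C

theorem commOK : CommOK C := Cert.F4.core.commOK_mild mildF4

/-- The data of the extension of degree 24 with its Frobenius. -/
structure Frob (F : Type*) [Field F] [Fintype F] (K : Type*) [Field K] [Fintype K] (q : ℕ) where
  f : F →+* K
  σ : K →+* K
  hF : Fintype.card F = q
  hK : Fintype.card K = q ^ 24
  hσ : ∀ x, σ x = x ^ q
  hσf : ∀ a, σ (f a) = f a
  hfix : ∀ x, σ x = x → ∃ a, f a = x

theorem exists_frob {F : Type u} [Field F] [Fintype F] {q : ℕ} (hq : Fintype.card F = q) :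
    ∃ (K : Type) (_ : Field K) (_ : Fintype K), Nonempty (Frob F K q) := by
  obtain ⟨p, hp⟩ := CharP.exists F
  haveI : Fact p.Prime := ⟨CharP.char_is_prime F p⟩
  let K := FiniteField.Extension F p 24
  haveI : Finite K := Module.finite_of_finite F
  letI : Fintype K := Fintype.ofFinite K
  have hq1 : 1 < q := hq ▸ Fintype.one_lt_card
  have hK : Fintype.card K = q ^ 24 := by
    rw [← Nat.card_eq_fintype_card, FiniteField.natCard_extension, Nat.card_eq_fintype_card, hq]
  let f := algebraMap F K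
  let σ : K →+* K := (FiniteField.Extension.frob F p 24).toAlgHom.toRingHom
  have hσ : ∀ x : K, σ x = x ^ q := fun x => by
    rw [← hq, ← Nat.card_eq_fintype_card]; exact FiniteField.Extension.frob_apply F p 24
  have hσf : ∀ a : F, σ (f a) = f a := fun a => AlgEquiv.commutes _ a
  refine ⟨K, inferInstance, inferInstance, ⟨⟨f, σ, hq, hK, hσ, hσf, ?_⟩⟩⟩
  classical
  intro x hx
  by_contra hne
  push Not at hne
  have hdeg : (Polynomial.X ^ q - Polynomial.X : Polynomial K).natDegree = q :=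
    FiniteField.X_pow_card_sub_X_natDegree_eq K hq1
  have hP : (Polynomial.X ^ q - Polynomial.X : Polynomial K) ≠ 0 := fun h => by
    rw [h, Polynomial.natDegree_zero] at hdeg; omega
  have hsub : insert x (Finset.univ.image f) ⊆
      (Polynomial.X ^ q - Polynomial.X : Polynomial K).roots.toFinset := by
    intro y hy
    have hy' : y ^ q = y := by
      rw [← hσ]
      rcases Finset.mem_insert.1 hy with rfl | hy
      · exact hx
      · obtain ⟨a, -, rfl⟩ := Finset.mem_image.1 hy; exact hσf a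
    rw [Multiset.mem_toFinset, Polynomial.mem_roots hP]
    simp [hy']
  have h1 := (Finset.card_le_card hsub).trans ((Multiset.toFinset_card_le _).trans (Polynomial.card_roots' _))
  rw [Finset.card_insert_of_notMem (by simpa [f] using hne),
    Finset.card_image_of_injective _ f.injective, Finset.card_univ, hq, hdeg] at h1
  omega

theorem ev_smul {R : Type*} [CommRing R] (x : R) (E : Fin chevF4.rank → R) (y : Rt chevF4) :
    RegTorus.ev C (x • E) y = x * RegTorus.ev C E y := by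
  rw [RegTorus.ev, RegTorus.ev, smul_dotProduct, smul_eq_mul]

section Field

variable {K : Type*} [Field K] [Fintype K]

theorem card_diag : Nat.card (chevF4.diagonalSubgroup K) = (Fintype.card K - 1) ^ chevF4.rank := by
  have hd1 : ∀ i : Fin chevF4.rank, Order.DataTorus.dF4.getD i.val 0 = 1 := by decide
  have := Order.CertF4.card_diagonal (K := K) rfl
  simp only [hd1, Nat.gcd_one_right, Finset.prod_const_one, one_mul] at this
  exact this

theorem card_group : Nat.card (chevF4.group K) =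
    Fintype.card K ^ (chevF4.nroots / 2) * (([2, 6, 8, 12] : List ℕ).map fun e => Fintype.card K ^ e - 1).prod := by
  have hd1 : ∀ i : Fin chevF4.rank, Order.DataTorus.dF4.getD i.val 0 = 1 := by decide
  have := Order.CertF4.card_group (K := K) rfl
  simp only [hd1, Nat.gcd_one_right, Finset.prod_const_one, one_mul] at this
  exact this

theorem HT_inj : Function.Injective (C.HT K) := by
  have h1 : Nat.card (C.HThom K).range = Nat.card (Fin chevF4.rank → Kˣ) := by
    rw [← C.diagonalSubgroup_eq, card_diag, Nat.card_fun, Nat.card_fin, Nat.card_units,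
      Nat.card_eq_fintype_card]
  have h2 := ((C.HThom K).rangeRestrict_surjective).bijective_of_nat_card_le h1.ge
  intro a b h
  exact h2.1 (Subtype.ext h)

theorem chA_surj (χ : Fin chevF4.rank → Kˣ) : ∃ c, ∀ k, C.chA c (C.p k) = χ k := by
  have h3 : Function.Surjective fun (c : Fin chevF4.rank → Kˣ) k => C.chA c (C.p k) :=
    Finite.injective_iff_surjective.1 fun a b h => HT_inj (RegTorus.HT_ext (congrFun h))
  obtain ⟨c, hc⟩ := h3 χ
  exact ⟨c, congrFun hc⟩

theorem chA_pow (e : Fin chevF4.rank → Kˣ) (k : ℕ) (y : Rt chevF4) : C.chA (e ^ k) y = C.chA e y ^ k := by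
  simp only [Core.chA, Pi.pow_apply, ← zpow_natCast, ← Finset.prod_zpow, ← zpow_mul, mul_comm]

theorem chA_mul (e e' : Fin chevF4.rank → Kˣ) (y : Rt chevF4) :
    C.chA (e * e') y = C.chA e y * C.chA e' y := by
  simp [Core.chA, mul_zpow, Finset.prod_mul_distrib]

variable (K) in
/-- a logarithm of the units -/
noncomputable def lgEquiv : Kˣ ≃* Multiplicative (ZMod (Nat.card Kˣ)) :=
  (zmodCyclicMulEquiv (G := Kˣ) inferInstance).symm

/-- the logarithm of a torus element -/
noncomputable def lg (e : Fin chevF4.rank → Kˣ) (k : Fin chevF4.rank) : ZMod (Nat.card Kˣ) :=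
  Multiplicative.toAdd (lgEquiv K (C.chA e (C.p k)))

theorem lg_chA (e : Fin chevF4.rank → Kˣ) (y : Rt chevF4) :
    Multiplicative.toAdd (lgEquiv K (C.chA e y)) = RegTorus.ev C (lg e) y := by
  rw [← C.chr_chA, Core.chr, map_prod, toAdd_prod, RegTorus.ev, dotProduct]
  refine Finset.sum_congr rfl fun k _ => ?_
  rw [map_zpow, toAdd_zpow, zsmul_eq_mul, mul_comm]
  rfl

theorem lg_surj (u : Fin chevF4.rank → ZMod (Nat.card Kˣ)) : ∃ e, lg e = u := by
  obtain ⟨e, he⟩ := chA_surj fun k => (lgEquiv K).symm (Multiplicative.ofAdd (u k))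
  exact ⟨e, funext fun k => by rw [lg, he, MulEquiv.apply_symm_apply, toAdd_ofAdd]⟩

theorem lg_eq_zero {e : Fin chevF4.rank → Kˣ} (h : lg e = 0) : e = 1 := by
  refine HT_inj (RegTorus.HT_ext fun k => (lgEquiv K).injective ?_)
  rw [show C.chA (1 : Fin chevF4.rank → Kˣ) (C.p k) = 1 by simp [Core.chA], map_one]
  exact toAdd_eq_zero.1 (congrFun h k)

theorem lg_inj {e e' : Fin chevF4.rank → Kˣ} (h : lg e = lg e') : e = e' :=
  HT_inj (RegTorus.HT_ext fun k => (lgEquiv K).injective (Multiplicative.toAdd.injective (congrFun h k)))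

theorem lg_mul (e e' : Fin chevF4.rank → Kˣ) : lg (e * e') = lg e + lg e' := by
  funext k
  rw [lg, chA_mul, map_mul, toAdd_mul]
  rfl

theorem lg_pow (e : Fin chevF4.rank → Kˣ) (n : ℕ) : lg (e ^ n) = (n : ZMod (Nat.card Kˣ)) • lg e := by
  funext k
  rw [lg, chA_pow, map_pow, toAdd_pow, nsmul_eq_mul]
  rfl

theorem lg_one : lg (1 : Fin chevF4.rank → Kˣ) = 0 := by
  funext k
  simp [lg, Core.chA]

/-- the relation `chA e (π y) = chA e y ^ q` in terms of the logarithms -/
theorem rel_iff {π : Equiv.Perm (Rt chevF4)} (hπ : π ∈ C.WG) {l : List ℤ} (hl : mk l = RegTorus.mat C π)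
    (q : ℕ) (e : Fin chevF4.rank → Kˣ) :
    (∀ y, C.chA e (π y) = C.chA e y ^ q) ↔ Eig l (q : ZMod (Nat.card Kˣ)) (lg e) := by
  unfold Eig mR
  rw [hl]
  constructor
  · intro h
    refine RegTorus.ev_ext C fun y => (RegTorus.ev_apply C (lg e) hπ y).symm.trans ?_
    rw [← lg_chA, h, map_pow, toAdd_pow, lg_chA, nsmul_eq_mul]
    exact (ev_smul _ _ _).symm
  · intro h y
    refine (lgEquiv K).injective (Multiplicative.toAdd.injective ?_)
    rw [map_pow, toAdd_pow, lg_chA, lg_chA, RegTorus.ev_apply C _ hπ]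
    refine (congrArg (fun v => RegTorus.ev C v y) h).trans ?_
    rw [nsmul_eq_mul]
    exact ev_smul _ _ _

theorem exists_lift {r : ℕ} (hr : r ∣ Nat.card Kˣ) {u : Fin chevF4.rank → ZMod (Nat.card Kˣ)}
    (h : ∀ k, (r : ZMod (Nat.card Kˣ)) * u k = 0) :
    ∃ a : Fin chevF4.rank → ℤ, ∀ k, u k = ((Nat.card Kˣ / r : ℕ) : ZMod (Nat.card Kˣ)) * (a k : ℤ) := by
  haveI : NeZero (Nat.card Kˣ) := ⟨Nat.card_pos.ne'⟩
  obtain ⟨m, hm⟩ := hr
  have hr0 : 0 < r := Nat.pos_of_ne_zero fun h => Nat.card_pos.ne' (by rw [hm, h, zero_mul])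
  have hk : ∀ k, ((Nat.card Kˣ / r : ℕ) : ℕ) ∣ (u k).val := by
    intro k
    have h1 := h k
    rw [← ZMod.natCast_zmod_val (u k), ← Nat.cast_mul, ZMod.natCast_eq_zero_iff] at h1
    have hq : Nat.card Kˣ / r = m := Nat.div_eq_of_eq_mul_right hr0 hm
    rw [hq]
    exact Nat.dvd_of_mul_dvd_mul_left hr0 ((dvd_of_eq hm.symm).trans h1)
  choose a ha using hk
  refine ⟨fun k => (a k : ℤ), fun k => ?_⟩
  conv_lhs => rw [← ZMod.natCast_zmod_val (u k), ha k]
  push_cast
  ring

theorem scale_eq_zero {r : ℕ} (hr : r ∣ Nat.card Kˣ) (z : ℤ) :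
    ((Nat.card Kˣ / r : ℕ) : ZMod (Nat.card Kˣ)) * (z : ℤ) = 0 ↔ (z : ZMod r) = 0 := by
  obtain ⟨m, hm⟩ := hr
  have hne : Nat.card Kˣ ≠ 0 := Nat.card_pos.ne'
  have hr0 : 0 < r := Nat.pos_of_ne_zero fun h => hne (by rw [hm, h, zero_mul])
  have hm0 : (m : ℤ) ≠ 0 := by
    rintro h
    rw [Int.natCast_eq_zero] at h
    exact hne (by rw [hm, h, mul_zero])
  rw [← Int.cast_natCast, ← Int.cast_mul, ZMod.intCast_zmod_eq_zero_iff_dvd,
    ZMod.intCast_zmod_eq_zero_iff_dvd, hm, Nat.mul_div_cancel_left _ hr0, Nat.cast_mul, mul_comm (r : ℤ)]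
  exact mul_dvd_mul_iff_left hm0

theorem ev_scale {R : Type*} [CommRing R] (c : R) (a : Fin chevF4.rank → ℤ) (y : Rt chevF4) :
    RegTorus.ev C (fun k => c * (a k : R)) y = c * ((RegTorus.ev C a y : ℤ) : R) := by
  simp only [RegTorus.ev, dotProduct, Int.cast_sum, Int.cast_mul, Finset.mul_sum, mul_assoc]
  exact Finset.sum_congr rfl fun k _ => rfl

/-- Torus elements of prime order as vectors modulo this prime. -/
theorem exists_modr {r : ℕ} (hr : r ∣ Nat.card Kˣ) {c : Fin chevF4.rank → Kˣ}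
    (hc : ∀ k, (r : ZMod (Nat.card Kˣ)) * lg c k = 0) :
    ∃ E : Fin chevF4.rank → ZMod r, (∀ y, C.chA c y = 1 ↔ RegTorus.ev C E y = 0) ∧
      (∀ k (z : ℤ), (z : ZMod r) = E k →
        lg c k = ((Nat.card Kˣ / r : ℕ) : ZMod (Nat.card Kˣ)) * (z : ℤ)) ∧
      ∀ (π : Equiv.Perm (Rt chevF4)) (q : ℕ), π ∈ C.WG → ∀ l, mk l = RegTorus.mat C π →
        (∀ y, C.chA c (π y) = C.chA c y ^ q) → Eig l (q : ZMod r) E := by
  obtain ⟨a, ha⟩ := exists_lift hr hc
  have he : ∀ y, RegTorus.ev C (lg c) y =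
      ((Nat.card Kˣ / r : ℕ) : ZMod (Nat.card Kˣ)) * ((RegTorus.ev C a y : ℤ) : ZMod (Nat.card Kˣ)) := fun y => by
    rw [← ev_scale]
    exact congrArg (fun v => RegTorus.ev C v y) (funext ha)
  have hE : ∀ y, ((RegTorus.ev C a y : ℤ) : ZMod r) = RegTorus.ev C (fun k => (a k : ZMod r)) y := fun y => by
    simp [RegTorus.ev, dotProduct]
  refine ⟨fun k => (a k : ZMod r), fun y => ?_, fun k z hz => ?_, fun π q hπ l hl h => ?_⟩
  · rw [← hE, ← scale_eq_zero hr, ← he, ← lg_chA, toAdd_eq_zero, MulEquiv.map_eq_one_iff]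
  · have h1 : (((a k - z : ℤ)) : ZMod r) = 0 := by rw [Int.cast_sub, hz, sub_self]
    rw [← scale_eq_zero hr, Int.cast_sub, mul_sub, sub_eq_zero] at h1
    rw [ha, h1]
  · unfold Eig mR
    rw [hl]
    refine RegTorus.ev_ext C fun y => (RegTorus.ev_apply C _ hπ y).symm.trans ?_
    have h1 := congrArg (fun u => Multiplicative.toAdd (lgEquiv K u)) (h y)
    simp only [map_pow, toAdd_pow, lg_chA, he, nsmul_eq_mul] at h1
    have h2 : ((RegTorus.ev C a (π y) - q * RegTorus.ev C a y : ℤ) : ZMod r) = 0 := by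
      rw [← scale_eq_zero hr]
      push_cast
      linear_combination h1
    push_cast at h2
    rw [← hE, sub_eq_zero.1 h2, hE]
    exact (ev_smul _ _ _).symm

/-- Vectors modulo a prime as torus elements. -/
theorem exists_elt {r : ℕ} [Fact r.Prime] (hr : r ∣ Nat.card Kˣ) {π : Equiv.Perm (Rt chevF4)} (hπ : π ∈ C.WG)
    {l : List ℤ} (hl : mk l = RegTorus.mat C π) {q : ℕ} {E : Fin chevF4.rank → ZMod r} (hE : E ≠ 0)
    (h : Eig l (q : ZMod r) E) :
    ∃ e : Fin chevF4.rank → Kˣ, orderOf e = r ∧ ∀ y, C.chA e (π y) = C.chA e y ^ q := by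
  obtain ⟨e, he⟩ := lg_surj (K := K) fun k =>
    ((Nat.card Kˣ / r : ℕ) : ZMod (Nat.card Kˣ)) * (((E k).val : ℤ) : ZMod (Nat.card Kˣ))
  have hv : ∀ y, ((RegTorus.ev C (fun k => ((E k).val : ℤ)) y : ℤ) : ZMod r) = RegTorus.ev C E y := fun y => by
    simp [RegTorus.ev, dotProduct]
  have hy : ∀ y, RegTorus.ev C (lg e) y = ((Nat.card Kˣ / r : ℕ) : ZMod (Nat.card Kˣ)) *
      ((RegTorus.ev C (fun k => ((E k).val : ℤ)) y : ℤ) : ZMod (Nat.card Kˣ)) := fun y => by
    rw [he, ← ev_scale]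
  have hr1 : ∀ k, (r : ZMod (Nat.card Kˣ)) * lg e k = 0 := fun k => by
    rw [he, mul_left_comm, show (r : ZMod (Nat.card Kˣ)) = ((r : ℤ) : ZMod (Nat.card Kˣ)) from (Int.cast_natCast r).symm,
      ← Int.cast_mul, scale_eq_zero hr]
    simp
  refine ⟨e, orderOf_eq_prime (lg_eq_zero ?_) ?_, fun y => ?_⟩
  · funext k
    rw [lg_pow]
    exact hr1 k
  · intro h1
    refine hE (funext fun k => ?_)
    have h2 := hy (C.p k)
    rw [h1, lg_one] at h2
    have h3 : RegTorus.ev C (0 : Fin chevF4.rank → ZMod (Nat.card Kˣ)) (C.p k) = 0 := by simp [RegTorus.ev]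
    rw [h3, eq_comm, scale_eq_zero hr, hv, RegTorus.ev_p] at h2
    exact h2
  · refine (lgEquiv K).injective (Multiplicative.toAdd.injective ?_)
    rw [map_pow, toAdd_pow, lg_chA, lg_chA, hy, hy, nsmul_eq_mul]
    have h1 : ((RegTorus.ev C (fun k => ((E k).val : ℤ)) (π y)
        - q * RegTorus.ev C (fun k => ((E k).val : ℤ)) y : ℤ) : ZMod r) = 0 := by
      push_cast
      rw [hv, hv, RegTorus.ev_apply C _ hπ]
      have h' : E ᵥ* (RegTorus.mat C π).map (Int.cast : ℤ → ZMod r) = (q : ZMod r) • E := by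
        rw [← hl]; exact h
      rw [h', sub_eq_zero]
      exact ev_smul _ _ _
    rw [← scale_eq_zero hr] at h1
    push_cast at h1
    linear_combination h1

end Field

theorem root_vec (y : Rt chevF4) : ∃ Y ∈ rootsL, ∀ {R : Type*} [CommRing R] (E : Fin chevF4.rank → R),
    RegTorus.ev C E y = E ⬝ᵥ fun k => (vec Y k : R) := by
  obtain ⟨Y, hY, h⟩ := exists_root y
  exact ⟨Y, hY, fun E => by rw [RegTorus.ev]; exact congrArg (E ⬝ᵥ ·) (funext fun k => congrArg _ (congrFun h k).symm)⟩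

end Cfsg.Agent.Lib.F4Graph46
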