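import Cfsg.Agent.Lib.F4Graph46.Check

/-!
The roots, the fundamental reflections and the matrices of the Weyl group of type F₄ as lists.
-/

set_option autoImplicit false
set_option linter.style.longLine false

namespace Cfsg.Agent.Lib.F4Graph46

/-- the roots in the basis of the fundamental ones -/
def rootsL : List (List ℤ) :=
  [[-2, -4, -3, -2], [-2, -4, -3, -1], [-2, -4, -2, -1], [-2, -3, -2, -1], [-2, -2, -2, -1], [-2, -2, -1, -1],
    [-2, -2, -1, 0], [-1, -3, -2, -1], [-1, -2, -2, -1], [-1, -2, -1, -1], [-1, -2, -1, 0], [-1, -1, -1, -1],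
    [-1, -1, -1, 0], [-1, -1, 0, 0], [-1, 0, 0, 0], [0, -2, -2, -1], [0, -2, -1, -1], [0, -2, -1, 0],
    [0, -1, -1, -1], [0, -1, -1, 0], [0, -1, 0, 0], [0, 0, -1, -1], [0, 0, -1, 0], [0, 0, 0, -1],
    [0, 0, 0, 1], [0, 0, 1, 0], [0, 0, 1, 1], [0, 1, 0, 0], [0, 1, 1, 0], [0, 1, 1, 1],
    [0, 2, 1, 0], [0, 2, 1, 1], [0, 2, 2, 1], [1, 0, 0, 0], [1, 1, 0, 0], [1, 1, 1, 0],
    [1, 1, 1, 1], [1, 2, 1, 0], [1, 2, 1, 1], [1, 2, 2, 1], [1, 3, 2, 1], [2, 2, 1, 0],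
    [2, 2, 1, 1], [2, 2, 2, 1], [2, 3, 2, 1], [2, 4, 2, 1], [2, 4, 3, 1], [2, 4, 3, 2]]

/-- the fundamental reflections -/
def srefL : List (List ℤ) :=
  [[-1, 1, 0, 0, 0, 1, 0, 0, 0, 0, 1, 0, 0, 0, 0, 1], [1, 0, 0, 0, 1, -1, 2, 0, 0, 0, 1, 0, 0, 0, 0, 1], [1, 0, 0, 0, 0, 1, 0, 0, 0, 1, -1, 1, 0, 0, 0, 1], [1, 0, 0, 0, 0, 1, 0, 0, 0, 0, 1, 0, 0, 0, 1, -1]]

def getN (L : List (List ℕ)) (n : ℕ) : ℕ := (L.getD (n / 36) []).getD (n % 36) 0

/-- the matrix with a given index -/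
def matL (n : ℕ) : List ℤ := dec (getN Data.mats n)

/-- the index of a product with a fundamental reflection -/
def nbr (n j : ℕ) : ℕ := Nat.land (Nat.shiftRight (getN Data.nbrs n) (16 * j)) 65535

/-- all the conditions for a block of 36 elements -/
def okChunk (c : ℕ) : Bool := (List.range 36).all fun j => okMat rootsL (matL (36 * c + j))

/-- closedness for a block of 36 elements -/
def closedChunk (c : ℕ) : Bool :=
  (List.range 36).all fun i => (List.range 4).all fun j =>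
    decide (nbr (36 * c + i) j < 1152) &&
      decide (mulL (srefL.getD j []) (matL (36 * c + i)) = matL (nbr (36 * c + i) j))

end Cfsg.Agent.Lib.F4Graph46
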