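import Cfsg.Agent.Lib.F4Graph46.Torus

/-!
Commuting elements of prime orders r, s ≥ 5 in F₄(q), in terms of the orders of q modulo r and s.
-/

set_option autoImplicit false
set_option linter.unusedSectionVars false

namespace Cfsg.Agent.Lib.F4Graph46

open Cfsg.Lie Cfsg.Agent.Lib.ChevStructure
open scoped MatrixGroups Matrix

section Arith

variable {r : ℕ} [Fact r.Prime] {x : ZMod r}

theorem quad_pow {c₁ c₀ : ℤ} (hc : Quad c₁ c₀) (h : x ^ 2 + c₁ * x + c₀ = 0) : x ^ 24 = 1 := by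
  rcases hc with ⟨rfl | rfl | rfl, rfl⟩ <;> push_cast at h
  · have h3 : x ^ 3 = 1 := by linear_combination (x - 1) * h
    rw [show (24 : ℕ) = 3 * 8 from rfl, pow_mul, h3, one_pow]
  · have h4 : x ^ 4 = 1 := by linear_combination (x ^ 2 - 1) * h
    rw [show (24 : ℕ) = 4 * 6 from rfl, pow_mul, h4, one_pow]
  · have h6 : x ^ 6 = 1 := by linear_combination (x + 1) * (x ^ 3 - 1) * h
    rw [show (24 : ℕ) = 6 * 4 from rfl, pow_mul, h6, one_pow]

theorem quart_pow {a : ℤ} (ha : Quart a) (h : x ^ 4 + a * x ^ 2 + 1 = 0) : x ^ 24 = 1 := by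
  rcases ha with rfl | rfl <;> push_cast at h
  · have h8 : x ^ 8 = 1 := by linear_combination (x ^ 4 - 1) * h
    rw [show (24 : ℕ) = 8 * 3 from rfl, pow_mul, h8, one_pow]
  · have h12 : x ^ 12 = 1 := by linear_combination (x ^ 2 + 1) * (x ^ 6 - 1) * h
    rw [show (24 : ℕ) = 12 * 2 from rfl, pow_mul, h12, one_pow]

end Arith

theorem exists_comm_of_order {G : Type*} [Group G] [Finite G] {r s : ℕ} (hr : r.Prime) (hs : s.Prime)
    (hrs : r ≠ s) (h : ∃ z : G, orderOf z = r * s) :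
    ∃ x y : G, orderOf x = r ∧ orderOf y = s ∧ x * y = y * x := by
  obtain ⟨z, hz⟩ := h
  refine ⟨z ^ s, z ^ r, ?_, ?_, by rw [← pow_add, ← pow_add, add_comm]⟩
  · rw [orderOf_pow, hz, Nat.gcd_eq_right (Dvd.intro_left r rfl), Nat.mul_div_cancel _ hs.pos]
  · rw [orderOf_pow, hz, Nat.gcd_eq_right (Dvd.intro s rfl), Nat.mul_div_cancel_left _ hr.pos]

theorem exists_order_of_comm {G : Type*} [Group G] [Finite G] {r s : ℕ} (hr : r.Prime) (hs : s.Prime)
    (hrs : r ≠ s) {x y : G} (hx : orderOf x = r) (hy : orderOf y = s) (h : x * y = y * x) :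
    ∃ z : G, orderOf z = r * s :=
  ⟨x * y, by
    rw [Commute.orderOf_mul_eq_mul_orderOf_of_coprime h (by rw [hx, hy]; exact (Nat.coprime_primes hr hs).2 hrs),
      hx, hy]⟩

theorem torus_group {G H V : Type*} [Group G] [Group H] [Group V] (f : G →* H) (hf : Function.Injective f)
    (τ : V →* H) (hτ : Function.Injective τ) (z : H) (R : Subgroup G) (h : ∀ x ∈ R, z * f x * z⁻¹ ∈ τ.range) :
    ∃ A : Subgroup V, Nat.card ↥A = Nat.card ↥R ∧ ∀ c ∈ A, ∃ x ∈ R, z * f x * z⁻¹ = τ c := by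
  let ψ : ↥R →* H := (MulAut.conj z).toMonoidHom.comp (f.comp R.subtype)
  have hψ : Function.Injective ψ := (MulAut.conj z).injective.comp (hf.comp Subtype.coe_injective)
  refine ⟨ψ.range.comap τ, ?_, fun c hc => ?_⟩
  · rw [Nat.card_congr (MonoidHom.ofInjective hψ).toEquiv]
    refine Nat.card_congr (Equiv.ofBijective (fun c => ⟨τ c.1, c.2⟩) ⟨fun c d h => ?_, fun y => ?_⟩)
    · exact Subtype.ext (hτ (congrArg Subtype.val h))
    · obtain ⟨x, hx⟩ := y.2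
      obtain ⟨c, hc⟩ := h x x.2
      exact ⟨⟨c, x, hc.symm⟩, Subtype.ext (hc.trans hx)⟩
  · obtain ⟨x, hx⟩ := hc
    exact ⟨(x : G), x.2, hx⟩

variable {F : Type*} [Field F] [Fintype F] {K : Type*} [Field K] [Fintype K] {q : ℕ} (Φ : Frob F K q)

include Φ

/-- the torus vector of an element of prime order -/
theorem modr_of {r : ℕ} [Fact r.Prime] (hrK : r ∣ Nat.card Kˣ) {g : GL chevF4.Idx K} {x : GL chevF4.Idx F}
    (hx : orderOf x = r) {c : Fin chevF4.rank → Kˣ} (hc : g⁻¹ * emb Φ x * g = C.HT K c) :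
    ∃ E : Fin chevF4.rank → ZMod r, E ≠ 0 ∧ (∀ y, C.chA c y = 1 ↔ RegTorus.ev C E y = 0) ∧
      (∀ k (z : ℤ), (z : ZMod r) = E k →
        lg c k = ((Nat.card Kˣ / r : ℕ) : ZMod (Nat.card Kˣ)) * (z : ℤ)) ∧
      ∀ (π : Equiv.Perm (Rt chevF4)) (n : ℕ), π ∈ C.WG → ∀ l, mk l = RegTorus.mat C π →
        (∀ y, C.chA c (π y) = C.chA c y ^ n) → Eig l (n : ZMod r) E := by
  have hco : orderOf c = r := (order_HT Φ hc).trans hx
  obtain ⟨E, hE, hlin, hEig⟩ := exists_modr hrK (lg_kill (c := c) (hco ▸ pow_orderOf_eq_one c))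
  refine ⟨E, fun h0 => ?_, hE, hlin, hEig⟩
  have h1 : c = 1 := HT_inj (RegTorus.HT_ext fun k => by
    rw [(hE (C.p k)).2 (by simp [h0, RegTorus.ev]), show C.chA (1 : Fin chevF4.rank → Kˣ) (C.p k) = 1 by
      simp [Core.chA]])
  rw [h1, orderOf_one] at hco
  exact (Fact.out : r.Prime).one_lt.ne hco

/-- an element of prime order is conjugate into the torus -/
theorem conj_single {r : ℕ} [Fact r.Prime] (hr5 : 5 ≤ r) (hrK : r ∣ Nat.card Kˣ)
    {x : ↥(chevF4.group F)} (hx : orderOf x = r) :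
    ∃ g ∈ chevF4.group K, ∃ c, g⁻¹ * emb Φ (x : GL chevF4.Idx F) * g = C.HT K c := by
  let X : ↥(chevF4.group K) := ⟨emb Φ (x : GL chevF4.Idx F), emb_mem Φ x.2⟩
  have hXo : orderOf X = r := by
    rw [← Subgroup.orderOf_coe, ← hx, ← Subgroup.orderOf_coe x]
    exact orderOf_injective _ (emb_injective Φ) _
  have hpg : IsPGroup r (Subgroup.zpowers X) :=
    IsPGroup.of_card (n := 1) (by rw [Nat.card_zpowers, hXo, pow_one])
  obtain ⟨z, hz, -, h⟩ := conj_into hr5 hrK (one_mem _) _ hpg fun s _ => by rw [mul_one, one_mul]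
  obtain ⟨c, hc⟩ := C.mem_diagonal_iff.1 (h X (Subgroup.mem_zpowers X))
  exact ⟨z⁻¹, inv_mem hz, c, by rw [inv_inv]; exact hc⟩

theorem no_quads {r s : ℕ} [Fact r.Prime] [Fact s.Prime] (hr5 : 5 ≤ r) (hs5 : 5 ≤ s)
    {c₁ c₀ d₁ d₀ : ℤ} (hc : Quad c₁ c₀) (hd : Quad d₁ d₀) (hne : c₁ ≠ d₁)
    (hqr : (q : ZMod r) ^ 2 + c₁ * (q : ZMod r) + c₀ = 0) (hqs : (q : ZMod s) ^ 2 + d₁ * (q : ZMod s) + d₀ = 0)
    {x y : ↥(chevF4.group F)} (hx : orderOf x = r) (hy : orderOf y = s) (hxy : x * y = y * x) : False := by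
  have hrK := dvd_units Φ (quad_pow hc hqr)
  have hsK := dvd_units Φ (quad_pow hd hqs)
  obtain ⟨g, hg, c, hcx⟩ := conj_single Φ hr5 hrK hx
  set G := chevF4.group K
  let Y : ↥G := ⟨g⁻¹ * emb Φ (y : GL chevF4.Idx F) * g,
    mul_mem (mul_mem (inv_mem hg) (emb_mem Φ y.2)) hg⟩
  have hYo : orderOf Y = s := by
    rw [← Subgroup.orderOf_coe, ← hy, ← Subgroup.orderOf_coe y,
      show (Y : GL chevF4.Idx K) = MulAut.conj g⁻¹ (emb Φ (y : GL chevF4.Idx F)) by simp [Y], MulEquiv.orderOf_eq,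
      orderOf_injective _ (emb_injective Φ)]
  have hYc : Commute (Y : GL chevF4.Idx K) (C.HT K c) := by
    rw [← hcx, show (Y : GL chevF4.Idx K) = g⁻¹ * emb Φ (y : GL chevF4.Idx F) * g from rfl]
    have h1 : emb Φ (y : GL chevF4.Idx F) * emb Φ (x : GL chevF4.Idx F) =
        emb Φ (x : GL chevF4.Idx F) * emb Φ (y : GL chevF4.Idx F) := by
      rw [← map_mul, ← map_mul]
      exact congrArg _ (congrArg Subtype.val hxy.symm)
    show _ = _
    calc g⁻¹ * emb Φ (y : GL chevF4.Idx F) * g * (g⁻¹ * emb Φ (x : GL chevF4.Idx F) * g)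
        = g⁻¹ * (emb Φ (y : GL chevF4.Idx F) * emb Φ (x : GL chevF4.Idx F)) * g := by group
      _ = _ := by rw [h1]; group
  obtain ⟨z, hz, hzA, hzT⟩ := conj_into hs5 hsK (C.HT_mem_diagonal c) (Subgroup.zpowers Y)
    (IsPGroup.of_card (n := 1) (by rw [Nat.card_zpowers, hYo, pow_one])) fun t ht => by
      obtain ⟨i, rfl⟩ := ht
      exact (hYc.zpow_left i).eq
  obtain ⟨d, hd'⟩ := C.mem_diagonal_iff.1 (hzT Y (Subgroup.mem_zpowers Y))
  have hcy : (g * z⁻¹)⁻¹ * emb Φ (y : GL chevF4.Idx F) * (g * z⁻¹) = C.HT K d := by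
    rw [← hd', show (Y : GL chevF4.Idx K) = g⁻¹ * emb Φ (y : GL chevF4.Idx F) * g from rfl]
    group
  have hcx' : (g * z⁻¹)⁻¹ * emb Φ (x : GL chevF4.Idx F) * (g * z⁻¹) = C.HT K c := by
    calc (g * z⁻¹)⁻¹ * emb Φ (x : GL chevF4.Idx F) * (g * z⁻¹)
        = z * (g⁻¹ * emb Φ (x : GL chevF4.Idx F) * g) * z⁻¹ := by group
      _ = C.HT K c := by rw [hcx, hzA, mul_inv_cancel_right]
  obtain ⟨π, hπ, hrel⟩ := weyl_of Φ (mul_mem hg (inv_mem hz)) (c := fun b : Bool => cond b c d)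
    (fun b => by cases b <;> first | exact fix_of_eq Φ hcy | exact fix_of_eq Φ hcx')
  obtain ⟨l, hl, hok⟩ := exists_list hπ
  obtain ⟨E, hE, -, -, hEig⟩ := modr_of Φ hrK (by rw [Subgroup.orderOf_coe, hx]) hcx'
  obtain ⟨E', hE', -, -, hEig'⟩ := modr_of Φ hsK (by rw [Subgroup.orderOf_coe, hy]) hcy
  exact not_both hok hc hd hne (det_quad_eq_zero hok hr5 hc hqr hE (hEig π q hπ l hl (hrel true)))
    (det_quad_eq_zero hok hs5 hd hqs hE' (hEig' π q hπ l hl (hrel false)))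

/-- the situation of an element with a quartic factor -/
theorem quart_setup {r d : ℕ} [Fact r.Prime] (hr7 : 7 ≤ r) {a : ℤ} (ha : Quart a)
    (hd : d.totient = 4)
    (hcyc : Polynomial.cyclotomic d ℤ = Polynomial.X ^ 4 + Polynomial.C a * Polynomial.X ^ 2 + 1)
    (hord : orderOf (q : ZMod r) = d) (hqr : (q : ZMod r) ^ 4 + a * (q : ZMod r) ^ 2 + 1 = 0)
    {x : ↥(chevF4.group F)} (hx : orderOf x = r) :
    ∃ g ∈ chevF4.group K, ∃ c, g⁻¹ * emb Φ (x : GL chevF4.Idx F) * g = C.HT K c ∧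
      (∀ y, C.chA c y ≠ 1) ∧ (∀ ω ∈ C.WG, (∀ y, C.chA c (ω y) = C.chA c y) → ω = 1) ∧
      ∃ π ∈ C.WG, ∃ l, mk l = RegTorus.mat C π ∧ okMat rootsL l = true ∧ quartL a l = zeroL ∧
        (∀ e : Fin chevF4.rank → Kˣ, (∀ y, C.chA e (π y) = C.chA e y ^ q) →
          ∃ y ∈ chevF4.group F, emb Φ y = g * C.HT K e * g⁻¹) ∧
        (∀ e : Fin chevF4.rank → Kˣ, frobG Φ (g * C.HT K e * g⁻¹) = g * C.HT K e * g⁻¹ →
          ∀ y, C.chA e (π y) = C.chA e y ^ q) := by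
  have hr5 : 5 ≤ r := by omega
  have hrK := dvd_units Φ (quart_pow ha hqr)
  have hrank : Fintype.card (Fin chevF4.rank) + 1 < r := by
    rw [Fintype.card_fin]; show 4 + 1 < r; omega
  obtain ⟨g, hg, c, hcx⟩ := conj_single Φ hr5 hrK hx
  obtain ⟨E, hE, hEv, -, hEig⟩ := modr_of Φ hrK (by rw [Subgroup.orderOf_coe, hx]) hcx
  have hzero : ∀ π ∈ C.WG, ∀ l, mk l = RegTorus.mat C π → (∀ y, C.chA c (π y) = C.chA c y ^ q) →
      quartL a l = zeroL := by
    intro π hπ l hl hrel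
    obtain ⟨e, he0, he⟩ := RegTorus.exists_pow_eq_one C hπ
    have h1 : E ᵥ* (RegTorus.mat C π).map (Int.cast : ℤ → ZMod r) = (q : ZMod r) • E := by
      rw [← hl]; exact hEig π q hπ l hl hrel
    have h2 := RegTorus.aeval_cyclotomic_eq_zero hrank he0 he hE hord (by rw [Fintype.card_fin]; exact hd) h1
    rw [hcyc] at h2
    simp only [map_add, map_mul, map_pow, Polynomial.aeval_X, Polynomial.aeval_C, map_one] at h2
    refine (eq_zero_iff (length_quartL a l)).1 ?_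
    rw [mk_quartL]
    rw [← hl] at h2
    refine Eq.trans ?_ h2
    rw [← Algebra.smul_def]
    rfl
  obtain ⟨π₀, hπ₀, hrel₀⟩ := weyl_of Φ hg (c := fun _ : Unit => c) fun _ => fix_of_eq Φ hcx
  obtain ⟨l₀, hl₀, hok₀⟩ := exists_list hπ₀
  have hz₀ := hzero π₀ hπ₀ l₀ hl₀ (hrel₀ ())
  have hEy : ∀ y, RegTorus.ev C E y ≠ 0 := by
    intro y
    obtain ⟨Y, hY, hYe⟩ := root_vec y
    rw [hYe]
    exact quart_regular hok₀ hr5 ha hz₀ hE (hEig π₀ q hπ₀ l₀ hl₀ (hrel₀ ())) hY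
  have hreg : ∀ y, C.chA c y ≠ 1 := fun y h => hEy y ((hEv y).1 h)
  obtain ⟨π, hπ, hrel, hto, hfrom⟩ := regular_of Φ hg (c := fun _ : Unit => c) (fun _ => fix_of_eq Φ hcx)
    fun y => ⟨(), hreg y⟩
  obtain ⟨l, hl, hok⟩ := exists_list hπ
  refine ⟨g, hg, c, hcx, hreg, fun ω hω h => ?_, π, hπ, l, hl, hok, hzero π hπ l hl (hrel ()), hto, hfrom⟩
  refine RegTorus.stab C (by show 4 + 1 < r; omega) hEy hω fun y => ?_
  obtain ⟨l', hl', -⟩ := exists_list hω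
  have h1 : E ᵥ* (RegTorus.mat C ω).map (Int.cast : ℤ → ZMod r) = ((1 : ℕ) : ZMod r) • E := by
    rw [← hl']; exact hEig ω 1 hω l' hl' fun y => by rw [pow_one, h]
  rw [RegTorus.ev_apply C E hω, h1, Nat.cast_one, one_smul]

/-- an element commuting with one with a quartic factor has order dividing the value of the quartic -/
theorem quart_none {r d : ℕ} [Fact r.Prime] (hr7 : 7 ≤ r) {a : ℤ} (ha : Quart a) (hd : d.totient = 4)
    (hcyc : Polynomial.cyclotomic d ℤ = Polynomial.X ^ 4 + Polynomial.C a * Polynomial.X ^ 2 + 1)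
    (hord : orderOf (q : ZMod r) = d) (hqr : (q : ZMod r) ^ 4 + a * (q : ZMod r) ^ 2 + 1 = 0)
    {x y : ↥(chevF4.group F)} (hx : orderOf x = r) (hxy : x * y = y * x) {s : ℕ} [Fact s.Prime]
    (hy : orderOf y = s) (hqs : (q : ZMod s) ^ 4 + a * (q : ZMod s) ^ 2 + 1 ≠ 0) : False := by
  obtain ⟨g, hg, c, hcx, hreg, hstab, π, hπ, l, hl, hok, hz, -, hfrom⟩ :=
    quart_setup Φ hr7 ha hd hcyc hord hqr hx
  set G := chevF4.group K
  have hYG : g⁻¹ * emb Φ (y : GL chevF4.Idx F) * g ∈ G := mul_mem (mul_mem (inv_mem hg) (emb_mem Φ y.2)) hg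
  have hYc : Commute (g⁻¹ * emb Φ (y : GL chevF4.Idx F) * g) (C.HT K c) := by
    rw [← hcx]
    have h1 : emb Φ (y : GL chevF4.Idx F) * emb Φ (x : GL chevF4.Idx F) =
        emb Φ (x : GL chevF4.Idx F) * emb Φ (y : GL chevF4.Idx F) := by
      rw [← map_mul, ← map_mul]
      exact congrArg _ (congrArg Subtype.val hxy.symm)
    show _ = _
    calc g⁻¹ * emb Φ (y : GL chevF4.Idx F) * g * (g⁻¹ * emb Φ (x : GL chevF4.Idx F) * g)
        = g⁻¹ * (emb Φ (y : GL chevF4.Idx F) * emb Φ (x : GL chevF4.Idx F)) * g := by group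
      _ = _ := by rw [h1]; group
  obtain ⟨e, he⟩ := G2Torus.Regular.exists_HT_of_commute_stab commOK hreg hstab hYG hYc
  have heig := (rel_iff hπ hl q e).1 (hfrom e (fix_of_eq Φ he))
  set N := Nat.card Kˣ
  have h1 : ((q : ZMod N) ^ 4 + (a : ZMod N) * (q : ZMod N) ^ 2 + 1) • lg e = 0 := heig.quart_eq_zero hz
  have heo : orderOf e = s := (order_HT Φ he).trans (by rw [Subgroup.orderOf_coe, hy])
  have h2 : (s : ZMod N) • lg e = 0 := funext fun k => lg_kill (c := e) (heo ▸ pow_orderOf_eq_one e) k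
  obtain ⟨u, v, huv⟩ : IsCoprime ((q : ℤ) ^ 4 + a * (q : ℤ) ^ 2 + 1) (s : ℤ) := by
    refine (Irreducible.coprime_iff_not_dvd (Int.prime_iff_natAbs_prime.2 (by simpa using Fact.out)).irreducible).2
      (fun hdv => hqs ?_) |>.symm
    have := (ZMod.intCast_zmod_eq_zero_iff_dvd _ s).2 hdv
    push_cast at this
    exact this
  have h3 : lg e = 0 := by
    have h4 := congrArg (fun z : ℤ => (z : ZMod N) • lg e) huv
    simp only [Int.cast_add, Int.cast_mul, Int.cast_pow, Int.cast_natCast, Int.cast_one, add_smul, mul_smul,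
      one_smul] at h4
    rw [add_smul, add_smul, one_smul] at h1
    rw [h2, smul_zero, add_zero, mul_smul] at *
    rw [h1, smul_zero] at h4
    exact h4.symm
  rw [lg_eq_zero h3, orderOf_one] at heo
  exact (Fact.out : s.Prime).one_lt.ne heo

/-- the elements of a torus with a quartic factor -/
theorem quart_exists {r d : ℕ} [Fact r.Prime] (hr7 : 7 ≤ r) {a : ℤ} (ha : Quart a) (hd : d.totient = 4)
    (hcyc : Polynomial.cyclotomic d ℤ = Polynomial.X ^ 4 + Polynomial.C a * Polynomial.X ^ 2 + 1)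
    (hord : orderOf (q : ZMod r) = d) (hqr : (q : ZMod r) ^ 4 + a * (q : ZMod r) ^ 2 + 1 = 0)
    (hrG : r ∣ Nat.card ↥(chevF4.group F)) {s : ℕ} [Fact s.Prime]
    (hqs : (q : ZMod s) ^ 4 + a * (q : ZMod s) ^ 2 + 1 = 0) :
    ∃ x y : ↥(chevF4.group F), orderOf x = r ∧ orderOf y = s ∧ x * y = y * x := by
  haveI : Finite ↥(chevF4.group F) := inferInstance
  obtain ⟨x, hx⟩ := exists_prime_orderOf_dvd_card' r hrG
  obtain ⟨g, hg, c, hcx, -, -, π, hπ, l, hl, hok, hz, hto, -⟩ := quart_setup Φ hr7 ha hd hcyc hord hqr hx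
  obtain ⟨E, hE, hEig⟩ := exists_eig_quart hok ha hz hqs
  obtain ⟨e, heo, he⟩ := exists_elt (dvd_units Φ (quart_pow ha hqs)) hπ hl hE hEig
  obtain ⟨y, hy, hye⟩ := hto e he
  refine ⟨x, ⟨y, hy⟩, hx, ?_, Subtype.ext (emb_injective Φ ?_)⟩
  · have : g⁻¹ * emb Φ y * g = C.HT K e := by rw [hye]; group
    rw [← Subgroup.orderOf_coe, ← order_HT Φ this, heo]
  · show emb Φ ((x : GL chevF4.Idx F) * y) = emb Φ (y * (x : GL chevF4.Idx F))
    rw [map_mul, map_mul, hye, show emb Φ (x : GL chevF4.Idx F) = g * C.HT K c * g⁻¹ by rw [← hcx]; group]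
    have h9 : C.HT K c * C.HT K e = C.HT K e * C.HT K c := by rw [C.HT_mul, C.HT_mul, mul_comm]
    calc g * C.HT K c * g⁻¹ * (g * C.HT K e * g⁻¹) = g * (C.HT K c * C.HT K e) * g⁻¹ := by group
      _ = g * (C.HT K e * C.HT K c) * g⁻¹ := by rw [h9]
      _ = _ := by group

/-- a Sylow subgroup as a group of torus vectors -/
theorem sylow_torus {r : ℕ} [Fact r.Prime] (hr5 : 5 ≤ r) (hrK : r ∣ Nat.card Kˣ) :
    ∃ g ∈ chevF4.group K, ∃ A : Subgroup (Fin chevF4.rank → Kˣ),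
      Nat.card ↥A = r ^ (Nat.card ↥(chevF4.group F)).factorization r ∧
      ∀ c ∈ A, ∃ x : ↥(chevF4.group F), g⁻¹ * emb Φ (x : GL chevF4.Idx F) * g = C.HT K c := by
  classical
  let R : Sylow r ↥(chevF4.group F) := default
  let ι : ↥(chevF4.group F) →* ↥(chevF4.group K) :=
    { toFun := fun x => ⟨emb Φ (x : GL chevF4.Idx F), emb_mem Φ x.2⟩
      map_one' := Subtype.ext (map_one _)
      map_mul' := fun x y => Subtype.ext (map_mul _ _ _) }
  obtain ⟨z, hz, -, hzT⟩ := conj_into hr5 hrK (one_mem _) ((R : Subgroup _).map ι) (R.isPGroup'.map ι)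
    fun s _ => by rw [mul_one, one_mul]
  have hT : ∀ x ∈ (R : Subgroup ↥(chevF4.group F)),
      z * emb Φ (x : GL chevF4.Idx F) * z⁻¹ ∈ (C.HThom K).range := fun x hx => by
    have h := hzT (ι x) (Subgroup.mem_map_of_mem ι hx)
    rw [C.diagonalSubgroup_eq] at h
    exact h
  obtain ⟨A, hA, hAx⟩ := torus_group ((emb Φ).comp (chevF4.group F).subtype)
    ((emb_injective Φ).comp Subtype.coe_injective) (C.HThom K) HT_inj z (R : Subgroup ↥(chevF4.group F)) hT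
  refine ⟨z⁻¹, inv_mem hz, A, hA.trans R.card_eq_multiplicity, fun c hc => ?_⟩
  obtain ⟨x, -, hx⟩ := hAx c hc
  refine ⟨x, ?_⟩
  rw [inv_inv]
  exact hx

/-- the vectors fixed by the Weyl group element have small exponent -/
theorem pow_bound {r : ℕ} [Fact r.Prime] (hr5 : 5 ≤ r) {c₁ c₀ : ℤ} (hc : Quad c₁ c₀) {l : List ℤ}
    (hok : okMat rootsL l = true) (hdet : det4 (quadL c₁ c₀ l) = 0)
    (hqr : (q : ZMod r) ^ 2 + c₁ * (q : ZMod r) + c₀ = 0) {W : ℕ} (hW0 : W ≠ 0)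
    (hVW : ((q : ℤ) ^ 2 + c₁ * (q : ℤ) + c₀) ∣ (W : ℤ)) {c : Fin chevF4.rank → Kˣ} {j : ℕ}
    (hco : orderOf c = r ^ j) (heig : Eig l (q : ZMod (Nat.card Kˣ)) (lg c)) :
    c ^ r ^ W.factorization r = 1 := by
  have hp : r.Prime := Fact.out
  obtain ⟨u, hu, hkill⟩ := exists_killer hok hr5 hc hdet (q : ℤ) (by exact_mod_cast hqr)
  obtain ⟨w, hw⟩ := hVW
  set N := Nat.card Kˣ
  have h1 := hkill N (lg c) (by rw [Int.cast_natCast]; exact heig)
  have h2 : ((u * W : ℤ) : ZMod N) • lg c = 0 := by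
    rw [hw, show u * (((q : ℤ) ^ 2 + c₁ * (q : ℤ) + c₀) * w) = w * (u * ((q : ℤ) ^ 2 + c₁ * (q : ℤ) + c₀)) by ring,
      Int.cast_mul, mul_smul]
    refine Eq.trans (congrArg (fun v : Fin chevF4.rank → ZMod N => (w : ZMod N) • v) h1) ?_
    exact smul_zero (M := ZMod N) (A := Fin chevF4.rank → ZMod N) _
  have h3 : r ^ j ∣ u.natAbs * W := by
    rw [← hco]
    refine orderOf_dvd_of_pow_eq_one (lg_eq_zero ?_)
    rw [lg_pow, show u.natAbs * W = (u * W).natAbs by rw [Int.natAbs_mul, Int.natAbs_natCast]]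
    rcases Int.natAbs_eq (u * W) with h | h
    · rw [h, Int.cast_natCast] at h2
      exact h2
    · rw [h, Int.cast_neg, Int.cast_natCast, neg_smul, neg_eq_zero] at h2
      exact h2
  have hru : Nat.Coprime (r ^ j) u.natAbs := by
    refine Nat.Coprime.pow_left _ (hp.coprime_iff_not_dvd.2 fun h => hu ?_)
    rw [ZMod.intCast_zmod_eq_zero_iff_dvd]
    exact Int.natCast_dvd.2 h
  rw [← orderOf_dvd_iff_pow_eq_one, hco]
  exact pow_dvd_pow r ((Nat.Prime.pow_dvd_iff_le_factorization hp hW0).1 (hru.dvd_of_dvd_mul_left h3))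

/-- the elements of a torus with a squared quadratic factor -/
theorem quad_exists {r : ℕ} [Fact r.Prime] (hr5 : 5 ≤ r) {c₁ c₀ : ℤ} (hc : Quad c₁ c₀)
    (hqr : (q : ZMod r) ^ 2 + c₁ * (q : ZMod r) + c₀ = 0) {W : ℕ} (hW0 : W ≠ 0) (hrW : r ∣ W)
    (hVW : ((q : ℤ) ^ 2 + c₁ * (q : ℤ) + c₀) ∣ (W : ℤ)) (hWG : W ^ 2 ∣ Nat.card ↥(chevF4.group F))
    {s : ℕ} [Fact s.Prime] (hqs : (q : ZMod s) ^ 2 + c₁ * (q : ZMod s) + c₀ = 0) :
    ∃ x y : ↥(chevF4.group F), orderOf x = r ∧ orderOf y = s ∧ x * y = y * x := by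
  have hp : r.Prime := Fact.out
  have hrK := dvd_units Φ (quad_pow hc hqr)
  obtain ⟨g, hg, A, hcard, hA⟩ := sylow_torus Φ hr5 hrK
  choose xv hxv using hA
  obtain ⟨π, hπ, hrel⟩ := weyl_of Φ hg (c := fun a : ↥A => a.1) fun a => fix_of_eq Φ (hxv a.1 a.2)
  obtain ⟨l, hl, hok⟩ := exists_list hπ
  have hb1 : 1 ≤ W.factorization r := hp.dvd_iff_one_le_factorization hW0 |>.1 hrW
  have hbv : 2 * W.factorization r ≤ (Nat.card ↥(chevF4.group F)).factorization r := by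
    have := (Nat.factorization_le_iff_dvd (pow_ne_zero 2 hW0) Nat.card_pos.ne').2 hWG r
    rwa [Nat.factorization_pow, Finsupp.smul_apply, smul_eq_mul] at this
  obtain ⟨a0, ha0⟩ := exists_prime_orderOf_dvd_card' (G := ↥A) r (hcard ▸ dvd_pow_self r (by omega))
  have hco0 : orderOf a0.1 = r := (Subgroup.orderOf_coe a0).trans ha0
  obtain ⟨E0, hE0, hE0v, hE0l, hEig0⟩ := modr_of Φ hrK ((order_HT Φ (hxv _ a0.2)).symm.trans hco0) (hxv _ a0.2)
  have hdet := det_quad_eq_zero hok hr5 hc hqr hE0 (hEig0 π q hπ l hl (hrel a0))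
  have hexp : ∀ a : ↥A, a ^ r ^ W.factorization r = 1 := fun a => by
    obtain ⟨j, -, hj⟩ := (Nat.dvd_prime_pow hp).1 (hcard ▸ orderOf_dvd_natCard a)
    exact Subtype.ext (pow_bound Φ hr5 hc hok hdet hqr hW0 hVW ((Subgroup.orderOf_coe a).trans hj)
      ((rel_iff hπ hl q a.1).1 (hrel a)))
  obtain ⟨a1, ha1k, ha1⟩ : ∃ a1 ∈ (powMonoidHom r : ↥A →* ↥A).ker, a1 ∉ Subgroup.zpowers a0 := by
    by_contra h
    push Not at h
    have h1 := card_le_pow (A := ↥A) _ hexp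
      ((Subgroup.card_le_of_le (K := Subgroup.zpowers a0) h).trans (by rw [Nat.card_zpowers, ha0]))
    rw [hcard] at h1
    have := (Nat.pow_le_pow_iff_right hp.one_lt).1 h1
    omega
  have ha1o : orderOf a1 = r := orderOf_eq_prime ha1k fun h => ha1 (h ▸ one_mem _)
  have hco1 : orderOf a1.1 = r := (Subgroup.orderOf_coe a1).trans ha1o
  obtain ⟨E1, hE1, hE1v, hE1l, hEig1⟩ := modr_of Φ hrK ((order_HT Φ (hxv _ a1.2)).symm.trans hco1) (hxv _ a1.2)
  have hind : ∀ a b : ZMod r, a • E0 + b • E1 = 0 → a = 0 ∧ b = 0 := by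
    intro a b hab
    have hb0 : b = 0 := by
      by_contra hb0
      have hlin : E1 = (-(b⁻¹ * a)) • E0 := by
        calc E1 = b⁻¹ • (b • E1) := (inv_smul_smul₀ hb0 _).symm
          _ = _ := by rw [eq_neg_of_add_eq_zero_right hab, smul_neg, smul_smul, neg_smul]
      refine ha1 ⟨((-(b⁻¹ * a)).val : ℤ), Subtype.ext ?_⟩
      show ((a0 ^ ((-(b⁻¹ * a)).val : ℤ) : ↥A) : Fin chevF4.rank → Kˣ) = a1.1
      rw [zpow_natCast, SubmonoidClass.coe_pow]
      refine (lg_inj (funext fun k => ?_)).symm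
      rw [lg_pow, Pi.smul_apply, smul_eq_mul, hE0l k ((E0 k).val : ℤ) (by simp),
        hE1l k (((-(b⁻¹ * a)).val : ℤ) * ((E0 k).val : ℤ)) (by rw [hlin]; simp)]
      push_cast
      ring
    rw [hb0, zero_smul, add_zero] at hab
    exact ⟨(smul_eq_zero.1 hab).resolve_right hE0, hb0⟩
  have hregy : ∀ y, ∃ b : Bool, C.chA (cond b a0.1 a1.1) y ≠ 1 := by
    intro y
    by_contra hne
    push Not at hne
    obtain ⟨Y, hY, hYe⟩ := root_vec y
    exact quad_regular hok hr5 hc hqr (hEig0 π q hπ l hl (hrel a0)) (hEig1 π q hπ l hl (hrel a1)) hind hY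
      ((hYe E0).symm.trans ((hE0v y).1 (hne true))) ((hYe E1).symm.trans ((hE1v y).1 (hne false)))
  obtain ⟨π', hπ', hrel', hto, -⟩ := regular_of Φ hg (c := fun b : Bool => cond b a0.1 a1.1)
    (fun b => by cases b <;> first | exact fix_of_eq Φ (hxv _ a1.2) | exact fix_of_eq Φ (hxv _ a0.2)) hregy
  obtain ⟨l', hl', hok'⟩ := exists_list hπ'
  have hdet' := det_quad_eq_zero hok' hr5 hc hqr hE0 (hEig0 π' q hπ' l' hl' (hrel' true))
  obtain ⟨E, hE, hEig⟩ := exists_eig_quad hok' hc hdet' hqs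
  obtain ⟨e, heo, he⟩ := exists_elt (dvd_units Φ (quad_pow hc hqs)) hπ' hl' hE hEig
  obtain ⟨y, hy, hye⟩ := hto e he
  have hx0 : emb Φ ((xv _ a0.2 : ↥(chevF4.group F)) : GL chevF4.Idx F) = g * C.HT K a0.1 * g⁻¹ := by
    rw [← hxv _ a0.2]; group
  refine ⟨xv _ a0.2, ⟨y, hy⟩, ?_, ?_, Subtype.ext (emb_injective Φ ?_)⟩
  · rw [← Subgroup.orderOf_coe, ← order_HT Φ (hxv _ a0.2), hco0]
  · have : g⁻¹ * emb Φ y * g = C.HT K e := by rw [hye]; group
    rw [← Subgroup.orderOf_coe, ← order_HT Φ this, heo]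
  · show emb Φ (((xv _ a0.2 : ↥(chevF4.group F)) : GL chevF4.Idx F) * y) = emb Φ (y * _)
    rw [map_mul, map_mul, hye, hx0]
    have h9 : C.HT K a0.1 * C.HT K e = C.HT K e * C.HT K a0.1 := by rw [C.HT_mul, C.HT_mul, mul_comm]
    calc g * C.HT K a0.1 * g⁻¹ * (g * C.HT K e * g⁻¹) = g * (C.HT K a0.1 * C.HT K e) * g⁻¹ := by group
      _ = g * (C.HT K e * C.HT K a0.1) * g⁻¹ := by rw [h9]
      _ = _ := by group

end Cfsg.Agent.Lib.F4Graph46
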