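import Cfsg.Agent.Lib.F4Graph46.Ext
import Cfsg.Agent.Lib.ChevStructure.Parabolic
import Cfsg.Agent.Lib.ChevStructure.RankOne
import Cfsg.Agent.Lib.ChevStructure.Order.CertF4
import Cfsg.Agent.Lib.Linear.Order

/-!
Commuting elements of F₄(q), q even, in the rank one group of the highest root and in the Levi
subgroup of type B₃ orthogonal to it.
-/

set_option autoImplicit false
set_option linter.unusedSectionVars false

namespace Cfsg.Agent.Lib.F4Graph46

open Cfsg.Lie Cfsg.Agent.Lib.ChevStructure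
open scoped MatrixGroups Matrix

/-- the last node -/
def k3 : Fin chevF4.rank := ⟨3, by decide⟩

/-- the highest root -/
def θ : Rt chevF4 := ⟨47, by decide⟩

theorem top_coord : ∀ y : Rt chevF4, RegTorus.F4.vv y.val k3 ≤ 2 ∧ -2 ≤ RegTorus.F4.vv y.val k3 ∧
    (RegTorus.F4.vv y.val k3 = 2 → y.val = 47) ∧ (RegTorus.F4.vv y.val k3 = -2 → y.val = 0) := by
  unfold Rt; decide +kernel

theorem theta_coord : RegTorus.F4.vv 47 k3 = 2 ∧ RegTorus.F4.vv 0 k3 = -2 := by decide +kernel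

/-- the Levi subsystem of the first three nodes -/
abbrev J3 : Set ℕ := {i | i < 3}

theorem PJ_coord {s : Rt chevF4} (h : s ∈ C.PJ J3) : C.v s k3 = 0 :=
  C.v_zero_of_PJ h (by simp [k3])

theorem theta_cases {z : Rt chevF4} (hz : z ∈ ({θ, θ.rev} : Set (Rt chevF4))) :
    C.v z k3 = 2 ∨ C.v z k3 = -2 := by
  rcases hz with rfl | rfl <;> rw [RegTorus.F4.v_eq]
  · exact Or.inl theta_coord.1
  · exact Or.inr theta_coord.2

theorem eq_of_top {y z : Rt chevF4} (hz : C.v z k3 = 2 ∨ C.v z k3 = -2) (h : C.v y k3 = C.v z k3) :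
    y = z := by
  obtain ⟨-, -, a1, a2⟩ := top_coord y
  obtain ⟨-, -, b1, b2⟩ := top_coord z
  simp only [RegTorus.F4.v_eq] at h hz
  rcases hz with hz | hz
  · exact Fin.ext ((a1 (h.trans hz)).trans (b1 hz).symm)
  · exact Fin.ext ((a2 (h.trans hz)).trans (b2 hz).symm)

section Ring

variable {R : Type*} [CommRing R]

theorem X_comm_theta {z s : Rt chevF4} (hz : z ∈ ({θ, θ.rev} : Set (Rt chevF4))) (hs : s ∈ C.PJ J3)
    (t u : R) : Commute (C.X R z t) (C.X R s u) := by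
  have hz3 := theta_cases hz
  have hs3 := PJ_coord hs
  have h1 : s ≠ z := by rintro rfl; omega
  have h2 : s ≠ z.rev := by
    rintro rfl
    rw [C.v_rev, Pi.neg_apply] at hs3
    omega
  have hnil : chevF4.commTerms z.val s.val = [] := by
    refine List.eq_nil_iff_forall_not_mem.2 fun c hc => ?_
    obtain ⟨y, -, hi, hj, hv⟩ := commOK.terms z s h1 h2 c hc
    generalize c.2.2.1 = i at hi hv
    generalize c.2.2.2 = j at hj hv
    have hv3 := congrFun hv k3
    simp only [Pi.add_apply, Pi.smul_apply, smul_eq_mul, hs3, mul_zero, add_zero] at hv3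
    have hb : C.v y k3 ≤ 2 ∧ -2 ≤ C.v y k3 := by
      rw [RegTorus.F4.v_eq]
      exact ⟨(top_coord y).1, (top_coord y).2.1⟩
    have hi1 : i = 1 := by rcases hz3 with h | h <;> rw [h] at hv3 <;> omega
    subst hi1
    rw [Nat.cast_one, one_mul] at hv3
    have hyz := eq_of_top hz3 hv3
    subst hyz
    refine C.v_ne_zero s (funext fun m => ?_)
    have := congrFun hv m
    simp only [Pi.add_apply, Pi.smul_apply, smul_eq_mul, Nat.cast_one, one_mul] at this
    have hj0 : (j : ℤ) ≠ 0 := by omega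
    exact (mul_eq_zero.1 (show (j : ℤ) * C.v s m = 0 by omega)).resolve_left hj0
  have e := commOK.comm_X z s h1 h2 t u
  rw [hnil, List.map_nil, List.prod_nil, mul_one] at e
  exact e.symm

theorem commute_theta_levi {a b : GL chevF4.Idx R} (ha : a ∈ C.US R {θ, θ.rev})
    (hb : b ∈ C.US R (C.PJ J3)) : Commute a b := by
  have h1 : ∀ s ∈ C.PJ J3, ∀ u, Commute a (C.X R s u) := by
    intro s hs u
    induction ha using Subgroup.closure_induction with
    | mem x hx => obtain ⟨z, hz, t, rfl⟩ := hx; exact X_comm_theta hz hs t u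
    | one => exact Commute.one_left _
    | mul x y _ _ hx hy => exact hx.mul_left hy
    | inv x _ hx => exact hx.inv_left
  induction hb using Subgroup.closure_induction with
  | mem x hx => obtain ⟨s, hs, u, rfl⟩ := hx; exact h1 s hs u
  | one => exact Commute.one_right _
  | mul x y _ _ hx hy => exact hx.mul_right hy
  | inv x _ hx => exact hx.inv_right

end Ring

section RankOne

variable {F : Type*} [Field F]

theorem slHom_injective [CharP F 2] {z : Rt chevF4} (hz : z ∈ C.Pos)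
    (φ : Matrix.SpecialLinearGroup (Fin 2) F →* GL chevF4.Idx F)
    (hφ : ∀ t : F, φ (slU t) = C.X F z t ∧ φ (slL t) = C.X F z.rev t) : Function.Injective φ := by
  have hN : ∀ u, φ (slN u) = C.nR F z u := fun u => by
    rw [slN, map_mul, map_mul, (hφ _).1, (hφ _).2]
    rfl
  have hH : ∀ u, φ (slH u) = Core.hD F z u := fun u => by rw [slH, map_mul, hN, hN, C.hR_eq]
  have hdiag : ∀ u : Fˣ, Core.hD F z u ∈ chevF4.diagonalSubgroup F := fun u => by
    rw [C.hD_eq_HT]; exact C.HT_mem_diagonal _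
  refine (injective_iff_map_eq_one φ).2 fun g hg => ?_
  obtain ⟨y, hy⟩ := C.slGraph_fst_surj F z g
  rcases C.slGraph_cases F z hy with ⟨t, u, e⟩ | ⟨t, u, s, e⟩
  · have hge : g = slU t * slH u := congrArg Prod.fst e
    rw [hge, map_mul, (hφ t).1, hH] at hg
    have h2 : C.X F z t ∈ chevF4.diagonalSubgroup F := by
      rw [eq_inv_of_mul_eq_one_left hg]; exact inv_mem (hdiag u)
    have ht : t = 0 := C.X_mem_diagonal h2
    subst ht
    rw [C.X_zero, one_mul] at hg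
    have h3 := C.hD_X z z u (1 : F)
    rw [hg, one_mul, mul_one, C.pr_self, mul_one] at h3
    have h4 := sub_eq_zero.1 (C.X_eq_one (t := ((u ^ (2 : ℤ) : Fˣ) : F) - 1) (r := z) (by
      rw [sub_eq_add_neg, ← C.X_add, ← C.X_inv, ← h3, mul_inv_cancel]))
    rw [zpow_two, Units.val_mul] at h4
    have h5 : ((u : F) - 1) * ((u : F) - 1) = 0 := by
      linear_combination h4 + (1 - (u : F)) * CharTwo.two_eq_zero (R := F)
    have hu : u = 1 := Units.ext (sub_eq_zero.1 (mul_self_eq_zero.1 h5))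
    rw [hge, hu]
    refine Subtype.ext ?_
    simp [Matrix.SpecialLinearGroup.coe_mul, slH_val, Matrix.mul_fin_two, Matrix.one_fin_two]
  · exfalso
    have hge : g = slU t * slH u * slN 1 * slU s := congrArg Prod.fst e
    rw [hge, map_mul, map_mul, map_mul, (hφ t).1, hH, hN, (hφ s).1] at hg
    have hB : C.nR F z 1 ∈ chevF4.borelSubgroup F := by
      have h2 : C.nR F z 1 = (C.X F z t * Core.hD F z u)⁻¹ * (C.X F z s)⁻¹ := by
        calc C.nR F z 1 = (C.X F z t * Core.hD F z u)⁻¹ * (C.X F z t * Core.hD F z u * C.nR F z 1 * C.X F z s) *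
              (C.X F z s)⁻¹ := by group
          _ = _ := by rw [hg, mul_one]
      rw [h2]
      exact mul_mem (inv_mem (mul_mem (C.X_mem_borel hz t) (C.diagonal_le_borel (hdiag u))))
        (inv_mem (C.X_mem_borel hz s))
    have h3 := mul_mem (mul_mem hB (C.X_mem_borel hz (1 : F))) (inv_mem hB)
    rw [C.nR_X_conj] at h3
    have := C.X_neg_mem_borel (C.rev_neg hz) h3
    simp at this

variable [Fintype F] {q : ℕ}

theorem exists_sl_elt [CharP F 2] (hq : Fintype.card F = q) {z : Rt chevF4} (hz : z ∈ C.Pos)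
    {r : ℕ} [hr : Fact r.Prime] (h : r = 2 ∨ (q : ZMod r) ^ 2 = 1) :
    ∃ x ∈ C.US F {z, z.rev}, orderOf x = r := by
  classical
  have hdvd : r ∣ Nat.card (Matrix.SpecialLinearGroup (Fin 2) F) := by
    rw [Linear.card_SL_two, hq]
    rcases h with rfl | h
    · obtain ⟨k, -, hk⟩ := FiniteField.card F 2
      refine dvd_mul_of_dvd_left (dvd_mul_of_dvd_left ?_ _) _
      rw [← hq, hk]
      exact dvd_pow_self 2 k.pos.ne'
    · have h1 : 1 ≤ q := hq ▸ Fintype.card_pos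
      rw [mul_assoc]
      refine dvd_mul_of_dvd_right ?_ _
      rw [← ZMod.natCast_eq_zero_iff, Nat.cast_mul, Nat.cast_sub h1, Nat.cast_add, Nat.cast_one]
      linear_combination h
  obtain ⟨g, hg⟩ := exists_prime_orderOf_dvd_card' r hdvd
  obtain ⟨φ, hφr, hφ⟩ := C.exists_slHom F z
  refine ⟨φ g, ?_, ?_⟩
  · have : φ g ∈ φ.range := ⟨g, rfl⟩
    rw [hφr] at this
    exact sup_le (C.US_mono F (Set.singleton_subset_iff.2 (Or.inl rfl)))
      (C.US_mono F (Set.singleton_subset_iff.2 (Or.inr rfl))) this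
  · rw [orderOf_injective φ (slHom_injective hz φ hφ), hg]

end RankOne

theorem dvd_of_dvd_sup {G : Type*} [Group G] [Finite G] {H N : Subgroup G}
    (hHN : H ≤ Subgroup.normalizer (N : Set G)) {s : ℕ} [hs : Fact s.Prime]
    (h : s ∣ Nat.card ↥(H ⊔ N)) : s ∣ Nat.card ↥H ∨ s ∣ Nat.card ↥N := by
  refine or_iff_not_imp_left.2 fun hH => ?_
  obtain ⟨⟨y, hy⟩, hyo⟩ := exists_prime_orderOf_dvd_card' s h
  rw [← Subgroup.orderOf_coe] at hyo
  rw [← SetLike.mem_coe, Subgroup.coe_mul_of_left_le_normalizer_right _ _ hHN] at hy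
  obtain ⟨a, ha, b, hb, rfl⟩ := Set.mem_mul.1 hy
  have key : ∀ k : ℕ, ∃ m ∈ N, (a * b) ^ k = a ^ k * m := by
    intro k
    induction k with
    | zero => exact ⟨1, one_mem _, by simp⟩
    | succ k ih =>
      obtain ⟨m, hm, e⟩ := ih
      refine ⟨a⁻¹ * m * a * b, mul_mem ?_ hb, by rw [pow_succ, e, pow_succ]; group⟩
      have := (Subgroup.mem_normalizer_iff.1 (hHN (inv_mem ha)) m).1 hm
      rwa [inv_inv] at this
  obtain ⟨m, hm, e⟩ := key (Nat.card ↥H)
  have hap : a ^ Nat.card ↥H = 1 :=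
    congrArg Subtype.val (pow_card_eq_one' (x := (⟨a, ha⟩ : ↥H)))
  rw [hap, one_mul] at e
  have ho : orderOf m = s := by
    rw [← e, orderOf_pow, hyo, (Nat.Prime.coprime_iff_not_dvd hs.out).2 hH, Nat.div_one]
  rw [← ho, ← Subgroup.orderOf_mk m hm]
  exact orderOf_dvd_natCard _

section Count

variable (F : Type*) [Field F]

/-- monomial elements of the parabolic subgroup realise the parabolic subgroup of W -/
theorem exists_acts_parabolic {σ : Equiv.Perm (Rt chevF4)} (h : σ ∈ C.WJ 3) :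
    ∃ n ∈ chevF4.monomialSubgroup F, n ∈ chevF4.parabolicSubgroup F J3 ∧ C.Acts n σ := by
  induction h using Subgroup.closure_induction with
  | mem x hx =>
    obtain ⟨i, hi, rfl⟩ := hx
    exact ⟨C.P F i, C.P_mem_monomial i, C.P_mem_parabolic hi,
      by simpa [Core.wprod, Core.pprod] using C.acts_wprod F [i]⟩
  | one =>
    exact ⟨1, one_mem _, one_mem _, by
      simpa [Core.wprod, Core.pprod] using C.acts_wprod F ([] : List (Fin chevF4.rank))⟩
  | mul x y _ _ hx hy =>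
    obtain ⟨n, h1, h2, h3⟩ := hx
    obtain ⟨m, g1, g2, g3⟩ := hy
    exact ⟨n * m, mul_mem h1 g1, mul_mem h2 g2, C.acts_mul F h3 g3⟩
  | inv x _ hx =>
    obtain ⟨n, h1, h2, h3⟩ := hx
    exact ⟨n⁻¹, inv_mem h1, inv_mem h2, C.acts_inv F h3⟩

variable {F}

theorem rep_mem_parabolic {σ : C.WG} (h : (σ : Equiv.Perm (Rt chevF4)) ∈ C.WJ 3) :
    C.rep F σ ∈ chevF4.parabolicSubgroup F J3 := by
  obtain ⟨n, h1, h2, h3⟩ := exists_acts_parabolic F h
  have hd : n⁻¹ * C.rep F σ ∈ chevF4.diagonalSubgroup F := by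
    refine C.mem_diagonal_of_acts_one (mul_mem (inv_mem h1) (C.rep_mem σ)) ?_
    have := C.acts_mul F (C.acts_inv F h3) (C.acts_rep F σ)
    rwa [inv_mul_cancel] at this
  rw [show C.rep F σ = n * (n⁻¹ * C.rep F σ) by group]
  exact mul_mem h2 (C.borel_le_parabolic J3 (C.diagonal_le_borel hd))

theorem parabolic_cell {g : GL chevF4.Idx F} (hg : g ∈ chevF4.parabolicSubgroup F J3) :
    ∃ n ∈ chevF4.monomialSubgroup F, ∃ π ∈ C.WJ 3, C.Acts n π ∧
      ∃ x ∈ chevF4.borelSubgroup F, ∃ y ∈ chevF4.borelSubgroup F, g = x * n * y := by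
  have hg' : g ∈ Subgroup.closure ((chevF4.borelSubgroup F : Set (GL chevF4.Idx F)) ∪
      {g | ∃ j : Fin chevF4.rank, (j : ℕ) ∈ J3 ∧ g = C.P F j}) := by
    rw [Subgroup.closure_union, Subgroup.closure_eq, ← C.parabolic_eq]
    exact hg
  clear hg
  have stepP : ∀ (j : Fin chevF4.rank), (j : ℕ) < 3 → ∀ g : GL chevF4.Idx F,
      (∃ n ∈ chevF4.monomialSubgroup F, ∃ π ∈ C.WJ 3, C.Acts n π ∧
        ∃ x ∈ chevF4.borelSubgroup F, ∃ y ∈ chevF4.borelSubgroup F, g = x * n * y) →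
      ∃ n ∈ chevF4.monomialSubgroup F, ∃ π ∈ C.WJ 3, C.Acts n π ∧
        ∃ x ∈ chevF4.borelSubgroup F, ∃ y ∈ chevF4.borelSubgroup F, C.P F j * g = x * n * y := by
    rintro j hj g ⟨n, hn, π, hπ, hact, x, hx, y, hy, rfl⟩
    rcases commOK.step (F := F) j hn hx with h | h <;>
      obtain ⟨u, hu, v, hv, e⟩ := DoubleCoset.mem_doubleCoset.1 h
    · refine ⟨C.P F j * n, mul_mem (C.P_mem_monomial j) hn, C.sref j * π,
        mul_mem (Subgroup.subset_closure ⟨j, hj, rfl⟩) hπ,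
        C.acts_mul F (by simpa [Core.wprod, Core.pprod] using C.acts_wprod F [j]) hact,
        u, hu, v * y, mul_mem hv hy, ?_⟩
      rw [← mul_assoc, ← mul_assoc, e]
      group
    · refine ⟨n, hn, π, hπ, hact, u, hu, v * y, mul_mem hv hy, ?_⟩
      rw [← mul_assoc, ← mul_assoc, e]
      group
  have stepB : ∀ b ∈ chevF4.borelSubgroup F, ∀ g : GL chevF4.Idx F,
      (∃ n ∈ chevF4.monomialSubgroup F, ∃ π ∈ C.WJ 3, C.Acts n π ∧
        ∃ x ∈ chevF4.borelSubgroup F, ∃ y ∈ chevF4.borelSubgroup F, g = x * n * y) →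
      ∃ n ∈ chevF4.monomialSubgroup F, ∃ π ∈ C.WJ 3, C.Acts n π ∧
        ∃ x ∈ chevF4.borelSubgroup F, ∃ y ∈ chevF4.borelSubgroup F, b * g = x * n * y := by
    rintro b hb g ⟨n, hn, π, hπ, hact, x, hx, y, hy, rfl⟩
    exact ⟨n, hn, π, hπ, hact, b * x, mul_mem hb hx, y, hy, by group⟩
  induction hg' using Subgroup.closure_induction_left with
  | one =>
    exact ⟨1, one_mem _, 1, one_mem _, by
      simpa [Core.wprod, Core.pprod] using C.acts_wprod F ([] : List (Fin chevF4.rank)),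
      1, one_mem _, 1, one_mem _, by group⟩
  | mul_left a ha b _ ih =>
    rcases ha with ha | ⟨j, hj, rfl⟩
    · exact stepB a ha b ih
    · exact stepP j hj b ih
  | inv_mul_cancel a ha b _ ih =>
    rcases ha with ha | ⟨j, hj, rfl⟩
    · exact stepB _ (inv_mem (x := a) ha) b ih
    · obtain ⟨c, hc⟩ := C.P_inv F j
      rw [hc, mul_assoc]
      exact stepB _ (C.diagonal_le_borel (C.HT_mem_diagonal c)) _ (stepP j hj b ih)

theorem parabolic_normalForm {g : GL chevF4.Idx F} (hg : g ∈ chevF4.parabolicSubgroup F J3) :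
    ∃ σ : C.WG, (σ : Equiv.Perm (Rt chevF4)) ∈ C.WJ 3 ∧ ∃ b ∈ chevF4.borelSubgroup F,
      ∃ u ∈ C.US F (C.inv' (σ : Equiv.Perm (Rt chevF4))), g = b * C.rep F σ * u := by
  obtain ⟨σ, b, hb, u, hu, e⟩ := commOK.exists_normalForm (C.parabolic_le_group J3 hg)
  obtain ⟨n, hn, π, hπ, hact, x, hx, y, hy, e'⟩ := parabolic_cell hg
  have huB : u ∈ chevF4.borelSubgroup F := C.posUS_le_borel (C.US_mono F (fun _ h => h.1) hu)
  have hd := commOK.bruhat_unique hn (C.rep_mem σ) (mul_mem (inv_mem hb) hx) (mul_mem hy (inv_mem huB))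
    (by
      calc C.rep F σ = b⁻¹ * (b * C.rep F σ * u) * u⁻¹ := by group
        _ = b⁻¹ * (x * n * y) * u⁻¹ := by rw [← e, e']
        _ = _ := by group)
  have h1 := C.acts_unique F (C.acts_mul F (C.acts_inv F hact) (C.acts_rep F σ)) (C.acts_diagonal hd)
  refine ⟨σ, ?_, b, hb, u, hu, e⟩
  rw [← inv_mul_eq_one.1 h1]
  exact hπ

open scoped Classical in
theorem card_parabolic [Finite F] : Nat.card ↥(chevF4.parabolicSubgroup F J3) =
    Nat.card ↥(chevF4.borelSubgroup F) *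
      ∑ σ : C.WJ 3, Nat.card F ^ C.len (σ : Equiv.Perm (Rt chevF4)) := by
  rw [Finset.mul_sum]
  have e : ∀ σ : C.WJ 3, Nat.card ↥(chevF4.borelSubgroup F) *
      Nat.card F ^ C.len (σ : Equiv.Perm (Rt chevF4)) =
      Nat.card (↥(chevF4.borelSubgroup F) × ↥(C.US F (C.inv' (σ : Equiv.Perm (Rt chevF4))))) := fun σ => by
    rw [Nat.card_prod]
    exact congrArg _ (commOK.card_US_inv' (R := F) ⟨σ.1, C.WJ_le 3 σ.2⟩).symm
  simp only [e]
  have : Finite (GL chevF4.Idx F) := inferInstance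
  rw [← Nat.card_sigma]
  refine (Nat.card_congr (Equiv.ofBijective
    (fun x : Σ σ : C.WJ 3, ↥(chevF4.borelSubgroup F) × ↥(C.US F (C.inv' (σ : Equiv.Perm (Rt chevF4)))) =>
      (⟨x.2.1.1 * C.rep F ⟨x.1.1, C.WJ_le 3 x.1.2⟩ * x.2.2.1, mul_mem (mul_mem
        (C.borel_le_parabolic J3 x.2.1.2) (rep_mem_parabolic x.1.2)) (C.borel_le_parabolic J3
          (C.posUS_le_borel (C.US_mono F (fun _ h => h.1) x.2.2.2)))⟩ : ↥(chevF4.parabolicSubgroup F J3)))
    ⟨?_, ?_⟩)).symm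
  · rintro ⟨⟨σ, hσ⟩, ⟨b, hb⟩, ⟨u, hu⟩⟩ ⟨⟨τ, hτ⟩, ⟨c, hc⟩, ⟨v, hv⟩⟩ h
    obtain ⟨h1, rfl, rfl⟩ := commOK.normalForm_unique (σ := ⟨σ, C.WJ_le 3 hσ⟩) (τ := ⟨τ, C.WJ_le 3 hτ⟩)
      hb hc hu hv (congrArg Subtype.val h)
    cases congrArg Subtype.val h1
    rfl
  · rintro ⟨g, hg⟩
    obtain ⟨σ, hσ, b, hb, u, hu, rfl⟩ := parabolic_normalForm hg
    exact ⟨⟨⟨σ.1, hσ⟩, ⟨b, hb⟩, ⟨u, hu⟩⟩, rfl⟩

/-- the representatives of the chain -/
def Rf (k : ℕ) : List (List (Fin chevF4.rank)) :=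
  (Order.DataF4.reps.getD k []).map (toFinL chevF4.rank)

theorem Rf_lengths : (Rf 0).map List.length = [0, 1] ∧ (Rf 1).map List.length = [0, 1, 2] ∧
    (Rf 2).map List.length = [0, 1, 2, 3, 3, 4, 5, 6] := by decide +kernel

open scoped Classical in
theorem sum_WJ3 (q : ℕ) : ∑ σ : C.WJ 3, q ^ C.len (σ : Equiv.Perm (Rt chevF4)) =
    (1 + q) * (1 + q + q ^ 2) * (1 + q + q ^ 2 + 2 * q ^ 3 + q ^ 4 + q ^ 5 + q ^ 6) := by
  have hlev := (allLt_iff.1 Order.CertF4.levels)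
  rw [C.sum_WJ Rf 3 (fun k hk => Cert.F4.certified.level (hlev k (by
    show k < Data.F4.fast.l
    have : Data.F4.fast.l = 4 := rfl
    omega))) q]
  have h : ∀ k L, (Rf k).map List.length = L → ((Rf k).map fun M => q ^ M.length).sum = (L.map (q ^ ·)).sum :=
    fun k L e => by rw [← e, List.map_map]; rfl
  simp only [Finset.prod_range_succ, Finset.prod_range_zero, one_mul,
    h 0 _ Rf_lengths.1, h 1 _ Rf_lengths.2.1, h 2 _ Rf_lengths.2.2,
    List.map_cons, List.map_nil, List.sum_cons, List.sum_nil, pow_zero, pow_one, add_zero]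
  ring

theorem exists_levi [Fintype F] {q : ℕ} (hq : Fintype.card F = q) {s : ℕ} [hs : Fact s.Prime]
    (h2 : (q : ZMod s) ^ 2 ≠ 1) (h : (q : ZMod s) ^ 4 = 1 ∨ (q : ZMod s) ^ 6 = 1) :
    ∃ y ∈ C.US F (C.PJ J3), orderOf y = s := by
  classical
  have hq1 : 1 ≤ q := hq ▸ Fintype.card_pos
  have hqs : (q : ZMod s) ≠ 0 := fun h0 => by rcases h with h | h <;> simp [h0] at h
  have hq1s : (q : ZMod s) - 1 ≠ 0 := fun h0 => h2 (by rw [sub_eq_zero.1 h0, one_pow])
  have hnq : ¬ s ∣ q := fun hd => hqs ((ZMod.natCast_eq_zero_iff q s).2 hd)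
  have hnU : ∀ {S : Subgroup (GL chevF4.Idx F)}, S ≤ C.US F C.Pos → ¬ s ∣ Nat.card ↥S := fun hS hd => by
    have h3 := hd.trans (Subgroup.card_dvd_of_le hS)
    rw [commOK.card_posUS F, Nat.card_eq_fintype_card, hq] at h3
    exact hnq (hs.out.dvd_of_dvd_pow h3)
  have hnD : ¬ s ∣ Nat.card ↥(chevF4.diagonalSubgroup F) := fun hd => by
    rw [card_diag, hq] at hd
    have h3 := (ZMod.natCast_eq_zero_iff _ s).2 (hs.out.dvd_of_dvd_pow hd)
    rw [Nat.cast_sub hq1, Nat.cast_one] at h3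
    exact hq1s h3
  have hP : s ∣ Nat.card ↥(chevF4.parabolicSubgroup F J3) := by
    rw [card_parabolic, sum_WJ3, Nat.card_eq_fintype_card (α := F), hq, ← ZMod.natCast_eq_zero_iff]
    push_cast
    have key : ((q : ZMod s) - 1) ^ 3 * ((1 + (q : ZMod s)) * (1 + q + (q : ZMod s) ^ 2) *
        (1 + q + (q : ZMod s) ^ 2 + 2 * (q : ZMod s) ^ 3 + (q : ZMod s) ^ 4 + (q : ZMod s) ^ 5 +
          (q : ZMod s) ^ 6)) = 0 := by
      have : ((q : ZMod s) - 1) ^ 3 * ((1 + (q : ZMod s)) * (1 + q + (q : ZMod s) ^ 2) *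
          (1 + q + (q : ZMod s) ^ 2 + 2 * (q : ZMod s) ^ 3 + (q : ZMod s) ^ 4 + (q : ZMod s) ^ 5 +
            (q : ZMod s) ^ 6)) = ((q : ZMod s) ^ 2 - 1) * (((q : ZMod s) ^ 4 - 1) * ((q : ZMod s) ^ 6 - 1)) := by
        ring
      rw [this]
      rcases h with h | h <;> simp [h]
    rw [(mul_eq_zero.1 key).resolve_left (pow_ne_zero 3 hq1s), mul_zero]
  rw [← commOK.radical_sup_levi J3, sup_comm] at hP
  have hL : s ∣ Nat.card ↥(chevF4.leviSubgroup F J3) :=
    (dvd_of_dvd_sup (le_trans (by rw [← commOK.radical_sup_levi J3]; exact le_sup_right)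
      (commOK.parabolic_le_normalizer J3)) hP).resolve_right
      (hnU (C.US_mono F fun _ h => h.1))
  rw [C.levi_eq] at hL
  have hN := (dvd_of_dvd_sup (C.diag_le_normalizer _) hL).resolve_left hnD
  obtain ⟨⟨y, hy⟩, hyo⟩ := exists_prime_orderOf_dvd_card' s hN
  exact ⟨y, hy, by rw [← hyo, Subgroup.orderOf_mk]⟩

/-- commuting elements with one order dividing 2(q² - 1) -/
theorem small_exists [Fintype F] [CharP F 2] {q : ℕ} (hq : Fintype.card F = q) {r s : ℕ} [Fact r.Prime]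
    [Fact s.Prime] (hr : r = 2 ∨ (q : ZMod r) ^ 2 = 1)
    (hs : s = 2 ∨ (q : ZMod s) ^ 4 = 1 ∨ (q : ZMod s) ^ 6 = 1) :
    ∃ x y : ↥(chevF4.group F), orderOf x = r ∧ orderOf y = s ∧ x * y = y * x := by
  have hθ : θ ∈ C.Pos := by show chevF4.nroots ≤ 2 * θ.val; decide
  obtain ⟨x, hx, hxo⟩ := exists_sl_elt (F := F) hq hθ hr
  obtain ⟨y, hy, hyo⟩ : ∃ y ∈ C.US F (C.PJ J3), orderOf y = s := by
    by_cases h2 : s = 2 ∨ (q : ZMod s) ^ 2 = 1
    · let j0 : Fin chevF4.rank := ⟨0, by decide⟩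
      obtain ⟨y, hy, hyo⟩ := exists_sl_elt (F := F) hq (C.p_pos j0) h2
      have h0 : C.p j0 ∈ C.PJ J3 := C.p_mem_PJ (by simp [j0])
      refine ⟨y, C.US_mono F ?_ hy, hyo⟩
      rintro z (rfl | rfl)
      · exact h0
      · exact C.PJ_rev h0
    · push Not at h2
      exact exists_levi hq h2.2 (hs.resolve_left h2.1)
  refine ⟨⟨x, C.US_le_group _ hx⟩, ⟨y, C.US_le_group _ hy⟩, ?_, ?_, Subtype.ext (commute_theta_levi hx hy).eq⟩
  · rw [Subgroup.orderOf_mk]; exact hxo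
  · rw [Subgroup.orderOf_mk]; exact hyo

end Count

end Cfsg.Agent.Lib.F4Graph46
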