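import Cfsg.Agent.Lib.F4Graph46.Ext
import Mathlib.GroupTheory.Index

/-!
Commuting semisimple elements of F₄(q) in a torus over the extension of degree 24: the Weyl group element
of the Frobenius, and the elements of the group obtained from its eigenvectors.
-/

set_option autoImplicit false
set_option linter.unusedSectionVars false

namespace Cfsg.Agent.Lib.F4Graph46

open Cfsg.Lie Cfsg.Agent.Lib.ChevStructure
open scoped MatrixGroups Matrix

variable {F : Type*} [Field F] [Fintype F] {K : Type*} [Field K] [Fintype K] {q : ℕ} (Φ : Frob F K q)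

/-- from the small group to the large one -/
def emb : GL chevF4.Idx F →* GL chevF4.Idx K := Matrix.GeneralLinearGroup.map (n := chevF4.Idx) Φ.f

/-- the Frobenius on the matrices -/
def frobG : GL chevF4.Idx K →* GL chevF4.Idx K := Matrix.GeneralLinearGroup.map (n := chevF4.Idx) Φ.σ

theorem emb_injective : Function.Injective (emb Φ) := ChevFixed.map_injective (f := Φ.f) Φ.f.injective

theorem emb_mem {x : GL chevF4.Idx F} (hx : x ∈ chevF4.group F) : emb Φ x ∈ chevF4.group K :=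
  ChevFixed.map_group_le C Φ.f ⟨x, hx, rfl⟩

theorem frobG_emb (x : GL chevF4.Idx F) : frobG Φ (emb Φ x) = emb Φ x :=
  Units.ext (Matrix.ext fun _ _ => Φ.hσf _)

theorem frobG_HT (e : Fin chevF4.rank → Kˣ) : frobG Φ (C.HT K e) = C.HT K (e ^ q) := by
  rw [frobG, ChevFixed.map_HT C Φ.σ e]
  congr 1
  funext j
  exact Units.ext (Φ.hσ _)

theorem frobG_mem {x : GL chevF4.Idx K} (hx : x ∈ chevF4.group K) : frobG Φ x ∈ chevF4.group K :=
  ChevFixed.map_group_le C Φ.σ ⟨x, hx, rfl⟩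

include Φ in
theorem dvd_units {r : ℕ} [Fact r.Prime] (h : (q : ZMod r) ^ 24 = 1) : r ∣ Nat.card Kˣ := by
  have h1 : 1 ≤ q ^ 24 := Nat.one_le_pow _ _ (by
    have := Φ.hF ▸ (Fintype.one_lt_card : 1 < Fintype.card F)
    omega)
  rw [Nat.card_units, Nat.card_eq_fintype_card, Φ.hK, ← ZMod.natCast_eq_zero_iff, Nat.cast_sub h1,
    Nat.cast_pow, h, Nat.cast_one, sub_self]

/-- An r-subgroup centralising a torus element is conjugate into the torus by an element centralising it. -/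
theorem conj_into {r : ℕ} [Fact r.Prime] (hr5 : 5 ≤ r) (hrK : r ∣ Nat.card Kˣ)
    {A : GL chevF4.Idx K} (hA : A ∈ chevF4.diagonalSubgroup K) (S : Subgroup ↥(chevF4.group K))
    (hS : IsPGroup r S) (hSA : ∀ s ∈ S, (s : GL chevF4.Idx K) * A = A * s) :
    ∃ z ∈ chevF4.group K, z * A = A * z ∧
      ∀ s ∈ S, z * (s : GL chevF4.Idx K) * z⁻¹ ∈ chevF4.diagonalSubgroup K := by
  classical
  let G := chevF4.group K
  let T := chevF4.diagonalSubgroup K
  let PT : Sylow r ↥T := default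
  let SS : Subgroup (GL chevF4.Idx K) := (PT : Subgroup ↥T).map T.subtype
  have hSST : SS ≤ T := Subgroup.map_subtype_le _
  have hSSG : SS ≤ G := hSST.trans C.diagonal_le_group
  rw [Nat.card_units, Nat.card_eq_fintype_card] at hrK
  have hQ2 : 2 ≤ Fintype.card K := Fintype.one_lt_card
  have hdeg : ∀ e ∈ ([2, 6, 8, 12] : List ℕ), ¬ r ∣ e ∧ 0 < e := by
    intro e he
    have hp : r.Prime := Fact.out
    have h6 : ∀ p, r ∣ p → p.Prime → p < 5 → False := fun p h hp' h5 => by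
      have := (Nat.prime_dvd_prime_iff_eq hp hp').1 h
      omega
    fin_cases he <;> refine ⟨fun hd => ?_, by norm_num⟩
    · exact h6 2 hd Nat.prime_two (by norm_num)
    · rw [show (6 : ℕ) = 2 * 3 from rfl, hp.dvd_mul] at hd
      exact hd.elim (h6 2 · Nat.prime_two (by norm_num)) (h6 3 · Nat.prime_three (by norm_num))
    · exact h6 2 (hp.dvd_of_dvd_pow (show r ∣ 2 ^ 3 from hd)) Nat.prime_two (by norm_num)
    · rw [show (12 : ℕ) = 2 ^ 2 * 3 from rfl, hp.dvd_mul] at hd
      exact hd.elim (fun h => h6 2 (hp.dvd_of_dvd_pow h) Nat.prime_two (by norm_num))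
        (h6 3 · Nat.prime_three (by norm_num))
  have hfac : (Nat.card ↥G).factorization r = (Nat.card ↥T).factorization r := by
    show (Nat.card ↥(chevF4.group K)).factorization r = (Nat.card ↥(chevF4.diagonalSubgroup K)).factorization r
    rw [card_group, card_diag]
    obtain ⟨h0, h⟩ := RegTorus.factorization_prod hQ2 hrK _ hdeg
    rw [Nat.factorization_mul (pow_ne_zero _ (by omega)) h0, Finsupp.add_apply, h,
      Nat.factorization_pow (Fintype.card K), Nat.factorization_pow (Fintype.card K - 1), Finsupp.smul_apply,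
      Finsupp.smul_apply, Nat.factorization_eq_zero_of_not_dvd (n := Fintype.card K) (p := r) (fun hd => by
        have := Nat.dvd_sub hd hrK
        rw [show Fintype.card K - (Fintype.card K - 1) = 1 by omega] at this
        exact (Fact.out : r.Prime).one_lt.ne' (Nat.dvd_one.1 this)), smul_zero, zero_add, smul_eq_mul]
    rfl
  have hcSS : Nat.card ↥(SS.subgroupOf G) = r ^ (Nat.card ↥G).factorization r := by
    rw [Nat.card_congr (Subgroup.subgroupOfEquivOfLe hSSG).toEquiv, hfac,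
      Subgroup.card_map_of_injective T.subtype_injective]
    exact PT.card_eq_multiplicity
  let P0 : Sylow r ↥G := Sylow.ofCard (SS.subgroupOf G) hcSS
  let A' : ↥G := ⟨A, C.diagonal_le_group hA⟩
  let Z : Subgroup ↥G := Subgroup.centralizer {A'}
  have hTcomm : ∀ a ∈ T, ∀ b ∈ T, a * b = b * a := by
    intro a ha b hb
    obtain ⟨c, rfl⟩ := C.mem_diagonal_iff.1 ha
    obtain ⟨c', rfl⟩ := C.mem_diagonal_iff.1 hb
    rw [C.HT_mul, C.HT_mul, mul_comm]
  have hP0Z : (P0 : Subgroup ↥G) ≤ Z := by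
    intro s hs
    rw [Subgroup.mem_centralizer_singleton_iff]
    exact Subtype.ext (hTcomm _ (hSST hs) _ hA)
  have hSZ : S ≤ Z := fun s hs => by
    rw [Subgroup.mem_centralizer_singleton_iff]
    exact Subtype.ext (hSA s hs)
  obtain ⟨P1, hP1⟩ := (hS.of_equiv (Subgroup.subgroupOfEquivOfLe hSZ).symm).exists_le_sylow
  obtain ⟨z, hz⟩ := MulAction.exists_smul_eq ↥Z P1 (P0.subtype hP0Z)
  refine ⟨((z : ↥G) : GL chevF4.Idx K), (z : ↥G).2,
    congrArg Subtype.val (Subgroup.mem_centralizer_singleton_iff.1 z.2), fun s hs => hSST ?_⟩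
  have h2 : z * ⟨s, hSZ hs⟩ * z⁻¹ ∈ ((P0.subtype hP0Z : Sylow r ↥Z) : Subgroup ↥Z) := by
    rw [← hz]
    exact ⟨⟨s, hSZ hs⟩, hP1 (Subgroup.mem_subgroupOf.2 hs), rfl⟩
  exact h2

/-- The Weyl group element of the Frobenius with respect to fixed points in a conjugate of the torus. -/
theorem weyl_of {ι : Type*} {g : GL chevF4.Idx K} (hg : g ∈ chevF4.group K)
    {c : ι → Fin chevF4.rank → Kˣ}
    (hfix : ∀ i, frobG Φ (g * C.HT K (c i) * g⁻¹) = g * C.HT K (c i) * g⁻¹) :
    ∃ π ∈ C.WG, ∀ i y, C.chA (c i) (π y) = C.chA (c i) y ^ q := by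
  set n' := g⁻¹ * frobG Φ g with hn'
  have hn'G : n' ∈ chevF4.group K := mul_mem (inv_mem hg) (frobG_mem Φ hg)
  have hrel : ∀ i, n' * C.HT K (c i ^ q) = C.HT K (c i) * n' := by
    intro i
    have h := hfix i
    rw [map_mul, map_mul, map_inv, frobG_HT] at h
    rw [hn']
    calc g⁻¹ * frobG Φ g * C.HT K (c i ^ q)
        = g⁻¹ * (frobG Φ g * C.HT K (c i ^ q) * (frobG Φ g)⁻¹) * frobG Φ g := by group
      _ = _ := by rw [h]; group
  clear_value n'
  obtain ⟨v, e, L, u, hv, hu, rfl⟩ := ChevFixed.Basic.exists_normalForm commOK hn'G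
  refine ⟨C.pprod L, C.pprod_mem_WG L, fun i y => ?_⟩
  have hUv : ∀ (d : Fin chevF4.rank → Kˣ) (S : Set (Rt chevF4)) (x : GL chevF4.Idx K), x ∈ C.US K S →
      C.HT K d * x * (C.HT K d)⁻¹ ∈ C.US K S := fun d S x hx =>
    (Subgroup.mem_normalizer_iff.1 (C.HT_mem_normalizer K d S) x).1 hx
  obtain ⟨e', he'⟩ := C.wprod_HT K L (c i ^ q)⁻¹
  set h := C.HT K (c i ^ q) with hh
  set h' := C.HT K (c i) with hh'
  have hinv : C.HT K (c i ^ q)⁻¹ = h⁻¹ := (C.HT_inv K _).symm
  have hw : C.HT K e' * C.wprod K L = C.wprod K L * h⁻¹ := by rw [← hinv]; exact he'.symm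
  have hfx : (h' * v * h'⁻¹ * (C.HT K (c i * e) * C.HT K e')) * C.wprod K L * (h * u * h⁻¹) =
      v * C.HT K e * C.wprod K L * u := by
    calc (h' * v * h'⁻¹ * (C.HT K (c i * e) * C.HT K e')) * C.wprod K L * (h * u * h⁻¹)
        = h' * v * h'⁻¹ * C.HT K (c i * e) * (C.HT K e' * C.wprod K L) * (h * u * h⁻¹) := by group
      _ = h' * v * h'⁻¹ * (h' * C.HT K e) * (C.wprod K L * h⁻¹) * (h * u * h⁻¹) := by rw [hw, hh', C.HT_mul]
      _ = h' * (v * C.HT K e * C.wprod K L * u) * h⁻¹ := by group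
      _ = _ := by rw [← hrel i, mul_inv_cancel_right]
  obtain ⟨-, hb⟩ := ChevFixed.Basic.normalForm_unique (C.acts_wprod K L)
    (mul_mem (C.posUS_le_borel (hUv _ _ v hv))
      (mul_mem (C.diagonal_le_borel (C.HT_mem_diagonal _)) (C.diagonal_le_borel (C.HT_mem_diagonal _))))
    (mul_mem (C.posUS_le_borel hv) (C.diagonal_le_borel (C.HT_mem_diagonal e)))
    (hUv _ _ u hu) hu hfx
  have h3 : v⁻¹ * (h' * v * h'⁻¹) = C.HT K e * (C.HT K (c i * e) * C.HT K e')⁻¹ := by
    rw [eq_mul_inv_iff_mul_eq, mul_assoc, hb, inv_mul_cancel_left]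
  have h4 : v⁻¹ * (h' * v * h'⁻¹) = 1 := by
    rw [← Subgroup.mem_bot, ← C.US_inf_diagonal]
    refine Subgroup.mem_inf.2 ⟨mul_mem (inv_mem hv) (hUv _ _ v hv), ?_⟩
    rw [h3]
    exact mul_mem (C.HT_mem_diagonal _) (inv_mem (mul_mem (C.HT_mem_diagonal _) (C.HT_mem_diagonal _)))
  have h5 : C.HT K e' = h'⁻¹ := by
    rw [h4, eq_comm, mul_inv_eq_one] at h3
    rw [hh', C.HT_inv]
    apply mul_left_cancel (a := C.HT K (c i * e))
    rw [← h3, C.HT_mul, mul_comm (c i) e, mul_inv_cancel_right]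
  have h6 : C.wprod K L * h = h' * C.wprod K L := by
    rw [h5] at hw
    calc C.wprod K L * h = h' * (h'⁻¹ * C.wprod K L) * h := by group
      _ = _ := by rw [hw]; group
  rw [← chA_pow]
  exact RegTorus.chA_of_conj (C.acts_wprod K L) h6 y

/-- With a regular family, the fixed elements in the torus are given by the Weyl group element. -/
theorem regular_of {ι : Type*} {g : GL chevF4.Idx K} (hg : g ∈ chevF4.group K)
    {c : ι → Fin chevF4.rank → Kˣ}
    (hfix : ∀ i, frobG Φ (g * C.HT K (c i) * g⁻¹) = g * C.HT K (c i) * g⁻¹)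
    (hreg : ∀ y, ∃ i, C.chA (c i) y ≠ 1) :
    ∃ π ∈ C.WG, (∀ i y, C.chA (c i) (π y) = C.chA (c i) y ^ q) ∧
      (∀ e : Fin chevF4.rank → Kˣ, (∀ y, C.chA e (π y) = C.chA e y ^ q) →
        ∃ y ∈ chevF4.group F, emb Φ y = g * C.HT K e * g⁻¹) ∧
      (∀ e : Fin chevF4.rank → Kˣ, frobG Φ (g * C.HT K e * g⁻¹) = g * C.HT K e * g⁻¹ →
        ∀ y, C.chA e (π y) = C.chA e y ^ q) := by
  set n' := g⁻¹ * frobG Φ g with hn'
  have hn'G : n' ∈ chevF4.group K := mul_mem (inv_mem hg) (frobG_mem Φ hg)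
  have hiff : ∀ e : Fin chevF4.rank → Kˣ,
      frobG Φ (g * C.HT K e * g⁻¹) = g * C.HT K e * g⁻¹ ↔ n' * C.HT K (e ^ q) = C.HT K e * n' := by
    intro e
    rw [map_mul, map_mul, map_inv, frobG_HT, show frobG Φ g = g * n' by rw [hn']; group]
    constructor
    · intro h
      calc n' * C.HT K (e ^ q) = g⁻¹ * (g * n' * C.HT K (e ^ q) * (g * n')⁻¹) * (g * n') := by group
        _ = _ := by rw [h]; group
    · intro h
      rw [mul_assoc g, h]
      group
  obtain ⟨π₀, hπ₀, hrel₀⟩ := weyl_of Φ hg hfix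
  have hregq : ∀ y, ∃ i, C.chA (c i ^ q) y ≠ 1 := fun y => by
    obtain ⟨i, hi⟩ := hreg (π₀ y)
    exact ⟨i, fun h => hi (by rw [hrel₀, ← chA_pow, h])⟩
  obtain ⟨e0, L, hn, hπ⟩ := RegTorus.exists_wprod_of_conj commOK (c := fun i => c i ^ q) (c' := c)
    hregq hreg hn'G fun i => (hiff _).1 (hfix i)
  have hacts : C.Acts n' (C.pprod L) := by rw [hn]; exact C.acts_HT_wprod K e0 L
  refine ⟨C.pprod L, C.pprod_mem_WG L, fun i y => (hπ i y).trans (chA_pow _ _ _), fun e he => ?_, fun e he y => ?_⟩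
  · obtain ⟨e2, he2⟩ := C.wprod_HT K L (e ^ q)
    have h1 : n' * C.HT K (e ^ q) = C.HT K e2 * n' := by
      rw [hn, mul_assoc, he2, ← mul_assoc, C.HT_mul, ← mul_assoc, C.HT_mul, mul_comm e0]
    have h2 : C.HT K e2 = C.HT K e := RegTorus.HT_ext fun k => by
      have h3 := RegTorus.chA_of_conj hacts h1 ((C.pprod L)⁻¹ (C.p k))
      rw [chA_pow, ← he, Equiv.Perm.inv_def, Equiv.apply_symm_apply] at h3
      exact h3
    rw [h2] at h1
    obtain ⟨y, hy, hy'⟩ := ChevFixed.mem_map_of_fixed (C := C) commOK Φ.f Φ.σ Φ.hfix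
      (fun _ _ h => HT_inj h) (mul_mem (mul_mem hg (C.HT_mem_group e)) (inv_mem hg)) ((hiff e).2 h1)
    exact ⟨y, hy, hy'⟩
  · rw [← chA_pow]
    exact RegTorus.chA_of_conj hacts ((hiff e).1 he) y

/-- An element of order r conjugate into the torus, as a vector. -/
theorem order_HT {g : GL chevF4.Idx K} {x : GL chevF4.Idx F} {c : Fin chevF4.rank → Kˣ}
    (h : g⁻¹ * emb Φ x * g = C.HT K c) : orderOf c = orderOf x := by
  have h1 : orderOf (C.HT K c) = orderOf x := by
    rw [← h, show g⁻¹ * emb Φ x * g = MulAut.conj g⁻¹ (emb Φ x) by simp, MulEquiv.orderOf_eq,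
      orderOf_injective _ (emb_injective Φ)]
  rw [← h1]
  exact (orderOf_injective (C.HThom K) HT_inj c).symm

theorem lg_kill {r : ℕ} {c : Fin chevF4.rank → Kˣ} (h : c ^ r = 1) (k : Fin chevF4.rank) :
    (r : ZMod (Nat.card Kˣ)) * lg c k = 0 := by
  have := congrFun (lg_pow c r) k
  rw [h, lg_one] at this
  exact this.symm

theorem fix_of_eq {g : GL chevF4.Idx K} {x : GL chevF4.Idx F} {c : Fin chevF4.rank → Kˣ}
    (h : g⁻¹ * emb Φ x * g = C.HT K c) :
    frobG Φ (g * C.HT K c * g⁻¹) = g * C.HT K c * g⁻¹ := by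
  have : g * C.HT K c * g⁻¹ = emb Φ x := by rw [← h]; group
  rw [this, frobG_emb]

/-- A finite commutative group killed by `r^a` with at most r elements killed by r. -/
theorem card_le_pow {r : ℕ} (a : ℕ) {A : Type*} [CommGroup A] [Finite A] (h : ∀ x : A, x ^ r ^ a = 1)
    (hk : Nat.card (powMonoidHom r : A →* A).ker ≤ r) : Nat.card A ≤ r ^ a := by
  suffices ∀ (a : ℕ) (B : Subgroup A), (∀ x ∈ B, x ^ r ^ a = 1) → Nat.card B ≤ r ^ a by
    simpa using this a ⊤ fun x _ => h x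
  intro a
  induction a with
  | zero =>
    intro B hB
    have : B = ⊥ := by
      rw [eq_bot_iff]
      intro x hx
      simpa using hB x hx
    simp [this]
  | succ a ih =>
    intro B hB
    let f : ↥B →* A := (powMonoidHom r).comp B.subtype
    have h1 : Nat.card ↥B = Nat.card f.range * Nat.card f.ker := by
      rw [← Nat.card_congr (QuotientGroup.quotientKerEquivRange f).toEquiv]
      exact Subgroup.card_eq_card_quotient_mul_card_subgroup f.ker
    have h2 : Nat.card f.range ≤ r ^ a := ih _ (by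
      rintro _ ⟨x, rfl⟩
      show ((x : A) ^ r) ^ r ^ a = 1
      rw [← pow_mul, ← pow_succ']
      exact hB x x.2)
    have h3 : Nat.card f.ker ≤ r := by
      refine le_trans (Nat.card_le_card_of_injective
        (fun x : f.ker => (⟨((x : ↥B) : A), x.2⟩ : (powMonoidHom r : A →* A).ker)) ?_) hk
      intro x y hxy
      exact Subtype.ext (Subtype.ext (congrArg Subtype.val hxy :))
    rw [h1, pow_succ]
    exact Nat.mul_le_mul h2 h3

end Cfsg.Agent.Lib.F4Graph46
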